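import Cfsg.Agent.Lib.JThreeUnique.Rels
import Mathlib.Tactic.IntervalCases
import Mathlib.Tactic.Group
import Cfsg.Agent.Lib.JThreeUnique.Collapse.Flat
import Cfsg.Agent.Lib.JThreeUnique.Collapse.S31
import Cfsg.Agent.Lib.JThreeUnique.Collapse.S3N
import Cfsg.Agent.Lib.JThreeUnique.Collapse.S3M
import Cfsg.Agent.Lib.JThreeUnique.Collapse.S41
import Cfsg.Agent.Lib.JThreeUnique.Collapse.S4N
import Cfsg.Agent.Lib.JThreeUnique.Collapse.S4M

/-!
Collapse certificates: with an additional relation on the commuting part, `a` lies in every subgroup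
containing `z, u, t, c, n`.
-/

set_option autoImplicit false

namespace CfsgLib.JThreeUnique

open CfsgLib.Presented

variable {G : Type*} [Group G]

/-- The value of a letter: `z, u, t, c, n, n⁻¹, a, a⁻¹`, then the identity. -/
def letter (z u t c n a : G) : ℕ → G
  | 0 => z
  | 1 => u
  | 2 => t
  | 3 => c
  | 4 => n
  | 5 => n⁻¹
  | 6 => a
  | 7 => a⁻¹
  | _ => 1

/-- The shared words. -/
def baseWords : List (List ℕ) :=
  [[4, 4, 4], [6, 6, 6], [0, 1, 0, 1], [0, 2, 0, 2], [0, 4, 0, 5], [0, 3, 0, 3], [1, 2, 1, 2],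
   [1, 4, 1, 5], [4, 2, 4, 2, 4, 2], [6, 2, 7, 2], [6, 4, 7, 5], [6, 0, 7, 1], [6, 1, 7, 1, 0],
   [3, 4, 3, 4], [3, 2, 3, 2, 3, 2]]

variable {z u t c n a : G}

theorem Base.letter_words (B : Base z u t c n a) :
    ∀ w ∈ baseWords, evW (letter z u t c n a) w = 1 := by
  have iz : z⁻¹ = z := inv_eq_of_mul_eq_one_right B.z2
  have iu : u⁻¹ = u := inv_eq_of_mul_eq_one_right B.u2
  have it : t⁻¹ = t := inv_eq_of_mul_eq_one_right B.t2
  have ic : c⁻¹ = c := inv_eq_of_mul_eq_one_right B.c2
  have comm : ∀ x y : G, x * y = y * x → x * (y * (x⁻¹ * y⁻¹)) = 1 := fun x y h => by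
    rw [← mul_assoc, h]; group
  have h1 := comm z u B.zu
  have h2 := comm z t B.zt
  have h3 := comm z n B.zn
  have h4 := comm z c B.zc
  have h5 := comm u t B.ut
  have h6 := comm u n B.un
  have h7 := comm a t B.tta
  have h8 := comm a n B.an
  rw [iz, iu] at h1
  rw [iz, it] at h2
  rw [iz] at h3
  rw [iz, ic] at h4
  rw [iu, it] at h5
  rw [iu] at h6
  rw [it] at h7
  have h9 : a * (z * (a⁻¹ * u)) = 1 := by
    rw [← mul_assoc, ← mul_assoc, B.az, B.u2]
  have h10 : a * (u * (a⁻¹ * (u * z))) = 1 := by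
    rw [← mul_assoc, ← mul_assoc, B.au, mul_assoc, ← mul_assoc u, B.u2, one_mul, B.z2]
  intro w hw
  simp only [baseWords, List.mem_cons, List.not_mem_nil, or_false] at hw
  rcases hw with rfl | rfl | rfl | rfl | rfl | rfl | rfl | rfl | rfl | rfl | rfl | rfl | rfl | rfl | rfl <;>
    simp only [evW_cons, evW_nil, mul_one, letter]
  · simpa [mul_assoc] using B.n3
  · simpa [mul_assoc] using B.a3
  · exact h1
  · exact h2
  · exact h3
  · exact h4
  · exact h5
  · exact h6
  · simpa [mul_assoc] using B.nt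
  · exact h7
  · exact h8
  · exact h9
  · exact h10
  · simpa [mul_assoc] using B.cn
  · simpa [mul_assoc] using B.ct

/-- A collapse certificate over the shared words and some extra relators puts `a` in `H`. -/
theorem Base.mem_of_cert (B : Base z u t c n a) (H : Subgroup G) (hz : z ∈ H) (hu : u ∈ H)
    (ht : t ∈ H) (hc : c ∈ H) (hn : n ∈ H) {d : Enum} (extra : List (List ℕ))
    (hA : d.A = ⟨8, .leaf 0x81871050c2040⟩) (hr : d.rels = baseWords ++ extra)
    (hs : d.subs = [[0], [1], [2], [3], [4]])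
    (hloop : ∀ {ev : ℕ → G}, d.Interp ev ((1 : G) : G ⧸ H) →
      evW ev [6] • ((1 : G) : G ⧸ H) = ((1 : G) : G ⧸ H))
    (hx : ∀ w ∈ extra, evW (letter z u t c n a) w = 1) : a ∈ H := by
  have hinvl : ∀ x < 8, Alphabet.invl ⟨8, .leaf 0x81871050c2040⟩ x =
      [0, 1, 2, 3, 5, 4, 7, 6].getD x 0 := by decide +kernel
  have hI : d.Interp (letter z u t c n a) ((1 : G) : G ⧸ H) := by
    refine ⟨by rw [hA]; rfl, fun x hx8 => ?_, fun w hw => ?_, fun w hw => ?_⟩
    · rw [hA] at hx8 ⊢
      change x < 8 at hx8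
      rw [hinvl x hx8]
      interval_cases x
      · exact B.z2
      · exact B.u2
      · exact B.t2
      · exact B.c2
      · exact inv_mul_cancel n
      · exact mul_inv_cancel n
      · exact inv_mul_cancel a
      · exact mul_inv_cancel a
    · rw [hr, List.mem_append] at hw
      exact hw.elim (B.letter_words w) (hx w)
    · rw [MulAction.Quotient.smul_coe, smul_eq_mul, mul_one, QuotientGroup.eq, mul_one]
      rw [hs] at hw
      refine H.inv_mem ?_
      simp only [List.mem_cons, List.not_mem_nil, or_false] at hw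
      rcases hw with rfl | rfl | rfl | rfl | rfl <;> simpa [letter]
  have h := hloop hI
  rw [MulAction.Quotient.smul_coe, smul_eq_mul, mul_one, QuotientGroup.eq, mul_one] at h
  simpa [letter] using h

/-- The relation `(a z v)² = 1`, `v = c u c`, collapses the group. -/
theorem mem_of_flat (B : Base z u t c n a)
    (h : a * z * (c * u * c) * (a * z * (c * u * c)) = 1) (H : Subgroup G)
    (hz : z ∈ H) (hu : u ∈ H) (ht : t ∈ H) (hc : c ∈ H) (hn : n ∈ H) : a ∈ H :=
  B.mem_of_cert H hz hu ht hc hn [[6, 0, 3, 1, 3, 6, 0, 3, 1, 3]] rfl rfl rfl Collapse.Flat.loop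
    fun w hw => by
      rw [List.mem_singleton.1 hw]
      simpa [letter, mul_assoc] using h

/-- An order 3 or 4 for `a · c a c` modulo `⟨n⟩` collapses the group. -/
theorem mem_of_seven (B : Base z u t c n a)
    (two : a * z * n * (c * u * c) * (a * z * n * (c * u * c)) = 1)
    (k : ℕ) (hk : k = 3 ∨ k = 4) (e : G) (he : e = 1 ∨ e = n ∨ e = n⁻¹)
    (h : (a * (c * a * c)) ^ k = e) (H : Subgroup G)
    (hz : z ∈ H) (hu : u ∈ H) (ht : t ∈ H) (hc : c ∈ H) (hn : n ∈ H) : a ∈ H := by
  have key : ∀ (s : List ℕ), evW (letter z u t c n a) s * e = 1 →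
      ∀ w ∈ [[6, 0, 4, 3, 1, 3, 6, 0, 4, 3, 1, 3], wpow [6, 3, 6, 3] k ++ s],
        evW (letter z u t c n a) w = 1 := by
    intro s hs w hw
    simp only [List.mem_cons, List.not_mem_nil, or_false] at hw
    rcases hw with rfl | rfl
    · simpa [letter, mul_assoc] using two
    · have h1 : evW (letter z u t c n a) [6, 3, 6, 3] = a * (c * a * c) := by
        simp [letter, mul_assoc]
      rw [evW_append, evW_wpow, h1, h, mul_eq_one_comm.1 hs]
  rcases hk with rfl | rfl <;> rcases he with rfl | rfl | rfl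
  · exact B.mem_of_cert H hz hu ht hc hn _ rfl rfl rfl Collapse.S31.loop (key [] (by simp))
  · exact B.mem_of_cert H hz hu ht hc hn _ rfl rfl rfl Collapse.S3N.loop (key [5] (by simp [letter]))
  · exact B.mem_of_cert H hz hu ht hc hn _ rfl rfl rfl Collapse.S3M.loop (key [4] (by simp [letter]))
  · exact B.mem_of_cert H hz hu ht hc hn _ rfl rfl rfl Collapse.S41.loop (key [] (by simp))
  · exact B.mem_of_cert H hz hu ht hc hn _ rfl rfl rfl Collapse.S4N.loop (key [5] (by simp [letter]))
  · exact B.mem_of_cert H hz hu ht hc hn _ rfl rfl rfl Collapse.S4M.loop (key [4] (by simp [letter]))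

end CfsgLib.JThreeUnique
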