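import Cfsg.Agent.Lib.JThreeUnique.Fusion
import Cfsg.Agent.Lib.HJType.Triple

/-!
One class of involutions: the normalised generators of the centraliser of `z` and the rotation `a`.
-/

set_option autoImplicit false
set_option linter.unusedSectionVars false

namespace CfsgLib.JThreeUnique

open Subgroup CfsgLib.HJType

variable {G : Type*} [Group G] [Finite G] {z : G} {Q : Subgroup G}

theorem conj_mul_eq (g x y : G) : g * (x * y) * g⁻¹ = g * x * g⁻¹ * (g * y * g⁻¹) := by group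

theorem conj_comm {g x y : G} (h : x * y = y * x) :
    g * x * g⁻¹ * (g * y * g⁻¹) = g * y * g⁻¹ * (g * x * g⁻¹) := by
  rw [← conj_mul_eq, h, conj_mul_eq]

namespace One

variable (S : One z Q)
include S

/-- `E` of two commuting outer involutions agrees; three meeting a singular element do not differ pairwise. -/
theorem three_members {w : G} (hw : Sing z Q w) {a b c : G} (ha : Outer z Q a) (hb : Outer z Q b)
    (hc : Outer z Q c) (hwa : w * a = a * w) (hwb : w * b = b * w) (hwc : w * c = c * w) :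
    b ∈ S.eGroup a ∨ c ∈ S.eGroup a ∨ c ∈ S.eGroup b := by
  classical
  have := Fintype.ofFinite G
  by_contra hcon
  push Not at hcon
  obtain ⟨hab, hac, hbc⟩ := hcon
  let A := fun j => Finset.univ.filter fun x => x ∈ S.eGroup j ∧ x ∉ Q
  have hA : ∀ j, Outer z Q j → (A j).card = 12 := fun j hj => by
    rw [← Fintype.card_subtype, ← Nat.card_eq_fintype_card]; exact S.outer_part_card hj
  have hsub : ∀ j, Outer z Q j → w * j = j * w → A j ⊆ Finset.univ.filter fun x =>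
      Outer z Q x ∧ w * x = x * w := by
    intro j hj hwj x hx
    simp only [A, Finset.mem_filter, Finset.mem_univ, true_and] at hx ⊢
    exact ⟨⟨(S.mem_eGroup.1 hx.1).1, S.eGroup_sq hj hx.1, hx.2⟩,
      S.eGroup_comm hj (S.mem_eGroup.2 ⟨S.hQC hw.1, hwj⟩) hx.1⟩
  have hdis : ∀ i j, Outer z Q i → Outer z Q j → j ∉ S.eGroup i → Disjoint (A i) (A j) := by
    intro i j hi hj hij
    rw [Finset.disjoint_left]
    intro x hx hx'
    simp only [A, Finset.mem_filter, Finset.mem_univ, true_and] at hx hx'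
    have hxo : Outer z Q x := ⟨(S.mem_eGroup.1 hx.1).1, S.eGroup_sq hi hx.1, hx.2⟩
    refine hij ?_
    rw [← S.eGroup_eq hi hxo hx.1, S.eGroup_eq hj hxo hx'.1]
    exact S.self_mem hj
  have hU : (A a ∪ A b ∪ A c).card = 36 := by
    rw [Finset.card_union_of_disjoint (Finset.disjoint_union_left.2
      ⟨hdis a c ha hc hac, hdis b c hb hc hbc⟩),
      Finset.card_union_of_disjoint (hdis a b ha hb hab), hA a ha, hA b hb, hA c hc]
  have hle := Finset.card_le_card (Finset.union_subset (Finset.union_subset (hsub a ha hwa)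
    (hsub b hb hwb)) (hsub c hc hwc))
  rw [hU, ← Fintype.card_subtype, ← Nat.card_eq_fintype_card, S.card_outer_comm ha hw] at hle
  omega

/-- A map preserving the outer involutions centralising `u` sends `E` to `E` after two steps. -/
theorem two_steps {u g t : G} (hu : Sing z Q u) (ht : Outer z Q t) (htu : t * u = u * t)
    (hg : ∀ j, Outer z Q j → j * u = u * j → Outer z Q (g * j * g⁻¹) ∧ g * j * g⁻¹ * u = u * (g * j * g⁻¹)) :
    Outer z Q (g * g * t * (g * g)⁻¹) ∧ g * g * t * (g * g)⁻¹ ∈ S.eGroup t := by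
  obtain ⟨o1, u1⟩ := hg t ht htu
  obtain ⟨o2, u2⟩ := hg _ o1 u1
  set j1 := g * t * g⁻¹ with hj1
  have e : g * g * t * (g * g)⁻¹ = g * j1 * g⁻¹ := by rw [hj1]; group
  rw [e]
  refine ⟨o2, ?_⟩
  have back : j1 ∈ S.eGroup t → g * j1 * g⁻¹ ∈ S.eGroup j1 := fun h =>
    S.mem_eGroup.2 ⟨o2.1, by rw [hj1]; exact conj_comm (S.mem_eGroup.1 h).2⟩
  rcases S.three_members hu ht o1 o2 htu.symm u1.symm u2.symm with h | h | h
  · have := back h
    rwa [S.eGroup_eq ht o1 h] at this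
  · exact h
  · have h1 : j1 ∈ S.eGroup t := S.mem_eGroup.2 ⟨o1.1, by
      have := (S.mem_eGroup.1 h).2
      rw [hj1] at this ⊢
      calc g * t * g⁻¹ * t = g⁻¹ * (g * (g * t * g⁻¹) * g⁻¹ * (g * t * g⁻¹)) * g := by group
        _ = g⁻¹ * (g * t * g⁻¹ * (g * (g * t * g⁻¹) * g⁻¹)) * g := by rw [this]
        _ = t * (g * t * g⁻¹) := by group⟩
    rwa [S.eGroup_eq ht o1 h1] at h

/-- An element of order three centralising `z` and `u` moves `t` and, squared, normalises `E`. -/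
theorem exists_three_fix {u : G} (hu : Sing z Q u) : ∃ n, orderOf n = 3 ∧ n ∈ centralizer ({z} : Set G) ∧
    n * u = u * n := by
  classical
  have := Fintype.ofFinite G
  have : Fact (Nat.Prime 3) := ⟨Nat.prime_three⟩
  obtain ⟨x, hx⟩ := exists_prime_orderOf_dvd_card' (G := ↥(centralizer ({z} : Set G))) 3
    (by rw [S.card_C]; norm_num)
  have hx3 : (x : G) ^ 3 = 1 := by
    rw [← Subgroup.orderOf_coe] at hx; rw [← hx]; exact pow_orderOf_eq_one _
  let P := {p : G // Sing z Q p}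
  let σ : Function.End P := fun p => ⟨(x : G) * p.1 * (x : G)⁻¹, S.sing_conj_mem x.2 p.2⟩
  have hσ : σ ^ 3 ^ 1 = 1 := by
    funext p
    apply Subtype.ext
    show (x : G) * ((x : G) * ((x : G) * p.1 * (x : G)⁻¹) * (x : G)⁻¹) * (x : G)⁻¹ = p.1
    calc _ = (x : G) ^ 3 * p.1 * ((x : G) ^ 3)⁻¹ := by rw [pow_succ, pow_two]; group
      _ = p.1 := by rw [hx3]; group
  have h := Equiv.Perm.card_fixedPoints_modEq hσ
  rw [← Nat.card_eq_fintype_card, S.card_sing] at h
  have hne : (Function.fixedPoints σ).Nonempty := by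
    by_contra hno
    rw [Set.not_nonempty_iff_eq_empty] at hno
    have h0 : Fintype.card (Function.fixedPoints σ) = 0 :=
      Fintype.card_eq_zero_iff.2 ⟨fun p => by simpa [hno] using p.2⟩
    rw [h0] at h
    exact absurd h (by decide)
  obtain ⟨p, hp⟩ := hne
  have hp' : (x : G) * p.1 * (x : G)⁻¹ = p.1 := congrArg Subtype.val hp
  obtain ⟨c, hc, e⟩ := S.sing_trans p.2 hu
  refine ⟨c * x * c⁻¹, ?_, mul_mem (mul_mem hc x.2) (inv_mem hc), ?_⟩
  · rw [LocalGen.orderOf_conj, Subgroup.orderOf_coe, hx]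
  · rw [← e]; exact conj_comm (mul_inv_eq_iff_eq_mul.1 hp')

/-- The normalised generators. -/
theorem exists_gens : ∃ u t c n a : G, Gens z Q u t c n a := by
  classical
  have := Fintype.ofFinite G
  have : Fact (Nat.Prime 3) := ⟨Nat.prime_three⟩
  obtain ⟨u, hu⟩ : ∃ u, Sing z Q u := by
    have h := S.card_sing
    obtain ⟨p⟩ := (Nat.card_pos_iff.1 (by rw [h]; norm_num : 0 < Nat.card {p : G // Sing z Q p})).1
    exact ⟨p.1, p.2⟩
  obtain ⟨t, ht, htu⟩ := S.exists_outer_comm hu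
  obtain ⟨Qu, T, hzQu⟩ := S.exists_other hu
  have huz : u * z = z * u := S.comm_zQ hu.1
  have huu : u * u = 1 := hu.2.1
  have hzs : Sing u Qu z := ⟨hzQu, S.zz, S.z_ne, fun e => hu.2.2.2 e.symm⟩
  have hzu : Sing z Q (z * u) := S.sing_zmul hu
  obtain ⟨y, hy, hyu⟩ := S.exists_swap hu.1 hu.2.2.1 hu.2.2.2
  obtain ⟨y', hy', hy'z⟩ := T.exists_swap hzQu S.z_ne fun e => hu.2.2.2 e.symm
  -- a rotation
  set g := y * y' with hg
  have hgz : g * z * g⁻¹ = u := by
    calc g * z * g⁻¹ = y * (y' * z * y'⁻¹) * y⁻¹ := by rw [hg]; group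
      _ = y * u * y⁻¹ * (y * z * y⁻¹) := by rw [hy'z]; group
      _ = u := by rw [hyu, S.comm_zQ hy, mul_inv_cancel_right, mul_assoc, huz, S.z_mul_z_mul]
  have hgu : g * u * g⁻¹ = z * u := by
    calc g * u * g⁻¹ = y * (y' * u * y'⁻¹) * y⁻¹ := by rw [hg]; group
      _ = z * u := by rw [T.comm_zQ hy', mul_inv_cancel_right, hyu]
  have hgzu : g * (z * u) * g⁻¹ = z := by
    rw [conj_mul_eq, hgz, hgu, ← mul_assoc, huz, mul_assoc, huu, mul_one]
  have hgO : ∀ j, Outer z Q j → j * u = u * j →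
      Outer z Q (g * j * g⁻¹) ∧ g * j * g⁻¹ * u = u * (g * j * g⁻¹) := by
    intro j hj hju
    have hjz : j * z = z * j := S.comm_z hj.1
    have hjzu : j * (z * u) = z * u * j := by rw [← mul_assoc, hjz, mul_assoc, hju, mul_assoc]
    have cz : g * j * g⁻¹ * z = z * (g * j * g⁻¹) := by
      have := conj_comm (g := g) hjzu; rwa [hgzu] at this
    have cu : g * j * g⁻¹ * u = u * (g * j * g⁻¹) := by
      have := conj_comm (g := g) hjz; rwa [hgz] at this
    refine ⟨⟨mem_centralizer_singleton_iff.2 cz, ?_, fun hQ => hj.2.2 ?_⟩, cu⟩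
    · rw [← conj_mul_eq, hj.2.1]; group
    · have e : j = g⁻¹ * (g * j * g⁻¹) * g := by group
      have hU := S.four_cases hu hQ (by rw [← conj_mul_eq, hj.2.1]; group) cu
      rw [e]
      rcases hU with r | r | r | r <;> rw [r]
      · rw [show g⁻¹ * 1 * g = 1 by group]; exact one_mem Q
      · rw [show g⁻¹ * z * g = z * u by nth_rw 1 [← hgzu]; group]; exact hzu.1
      · rw [show g⁻¹ * u * g = z by nth_rw 1 [← hgz]; group]; exact S.hzQ
      · rw [show g⁻¹ * (z * u) * g = u by nth_rw 1 [← hgu]; group]; exact hu.1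
  obtain ⟨o2, hE2⟩ := S.two_steps hu ht htu hgO
  have hj2u : g * g * t * (g * g)⁻¹ * u = u * (g * g * t * (g * g)⁻¹) := by
    obtain ⟨o1, u1⟩ := hgO t ht htu
    have := (hgO _ o1 u1).2
    rw [show g * g * t * (g * g)⁻¹ = g * (g * t * g⁻¹) * g⁻¹ by group]
    exact this
  obtain ⟨c₀, hc₀, hc₀t⟩ := S.outer_trans o2 ht
  set u' := c₀ * u * c₀⁻¹ with hu'
  have hu's : Sing z Q u' := S.sing_conj_mem hc₀ hu
  have hu't : u' * t = t * u' := by rw [← hc₀t]; exact conj_comm hj2u.symm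
  have huE : u ∈ S.eGroup t := S.mem_eGroup.2 ⟨S.hQC hu.1, htu.symm⟩
  have hu'2 : u' = u ∨ u' = z * u := by
    have hcomm : u' * u = u * u' := S.eGroup_comm ht (S.mem_eGroup.2 ⟨S.hQC hu's.1, hu't⟩) huE
    rcases S.four_cases hu hu's.1 hu's.2.1 hcomm with e | e | e | e
    exacts [absurd e hu's.2.2.1, absurd e hu's.2.2.2, Or.inl e, Or.inr e]
  set h := c₀ * (g * g) with hh
  have hht : h * t = t * h := mul_inv_eq_iff_eq_mul.1 (by
    nth_rw 2 [← hc₀t]; rw [hh]; group)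
  have hhz : h * z * h⁻¹ = z * u' := by
    calc h * z * h⁻¹ = c₀ * (g * (g * z * g⁻¹) * g⁻¹) * c₀⁻¹ := by rw [hh]; group
      _ = z * u' := by rw [hgz, hgu, conj_mul_eq, S.comm_z hc₀, mul_inv_cancel_right, hu']
  have hhu : h * u * h⁻¹ = z := by
    calc h * u * h⁻¹ = c₀ * (g * (g * u * g⁻¹) * g⁻¹) * c₀⁻¹ := by rw [hh]; group
      _ = z := by rw [hgu, hgzu, S.comm_z hc₀, mul_inv_cancel_right]
  -- no point of the four-group is fixed
  have hstab : ∀ w, Sing z Q w → w * t = t * w → ∀ k, k * w = w * k → k * t = t * k → k * z = z * k := by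
    intro w hw hwt k hkw hkt
    obtain ⟨Qw, W, hzQw⟩ := S.exists_other hw
    have hzw : Sing w Qw z := ⟨hzQw, S.zz, S.z_ne, fun e => hw.2.2.2 e.symm⟩
    have htW : Outer w Qw t := by
      refine ⟨mem_centralizer_singleton_iff.2 hwt.symm, ht.2.1, fun hQw => ht.2.2 ?_⟩
      rcases W.four_cases hzw hQw ht.2.1 (S.comm_z ht.1) with e | e | e | e <;> rw [e]
      exacts [one_mem Q, hw.1, S.hzQ, mul_mem hw.1 S.hzQ]
    exact W.eGroup_comm htW (W.mem_eGroup.2 ⟨mem_centralizer_singleton_iff.2 hkw, hkt⟩)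
      (W.mem_eGroup.2 ⟨mem_centralizer_singleton_iff.2 (S.comm_zQ hw.1).symm, (S.comm_z ht.1).symm⟩)
  have hu'u : u' = u := by
    refine hu'2.resolve_right fun e => ?_
    rw [e, S.z_mul_z_mul] at hhz
    have hfix : h * (z * u) * h⁻¹ = z * u := by rw [conj_mul_eq, hhz, hhu, huz]
    have := hstab (z * u) hzu (by rw [mul_assoc, ← htu, ← mul_assoc, ← S.comm_z ht.1, mul_assoc]) h
      (mul_inv_eq_iff_eq_mul.1 hfix) hht
    exact hu.2.2.2 (by rw [← hhz, this, mul_inv_cancel_right])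
  rw [hu'u] at hhz
  -- the rotation of order three
  set a₀ := h⁻¹ with ha₀
  have h0z : a₀ * z * a₀⁻¹ = u := by
    calc a₀ * z * a₀⁻¹ = h⁻¹ * (h * u * h⁻¹) * h⁻¹⁻¹ := by rw [hhu, ha₀]
      _ = u := by group
  have h0u : a₀ * u * a₀⁻¹ = z * u := by
    have hhzu : h * (z * u) * h⁻¹ = u := by rw [conj_mul_eq, hhz, hhu, mul_assoc, huz, S.z_mul_z_mul]
    calc a₀ * u * a₀⁻¹ = h⁻¹ * (h * (z * u) * h⁻¹) * h⁻¹⁻¹ := by rw [hhzu, ha₀]
      _ = z * u := by group
  have h0t : a₀ * t = t * a₀ := (Commute.inv_left (show Commute h t from hht)).eq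
  set e₀ := a₀ * a₀ * a₀ with he₀
  have he₀z : e₀ * z = z * e₀ := mul_inv_eq_iff_eq_mul.1 (by
    calc e₀ * z * e₀⁻¹ = a₀ * (a₀ * (a₀ * z * a₀⁻¹) * a₀⁻¹) * a₀⁻¹ := by rw [he₀]; group
      _ = z := by rw [h0z, h0u, conj_mul_eq, h0z, h0u, ← mul_assoc, huz, mul_assoc, huu, mul_one])
  have he₀t : e₀ * t = t * e₀ :=
    (((show Commute a₀ t from h0t).mul_left h0t).mul_left h0t).eq
  have he₀E : e₀ ∈ S.eGroup t := S.mem_eGroup.2 ⟨mem_centralizer_singleton_iff.2 he₀z, he₀t⟩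
  set a := a₀ * e₀ with ha
  have ha3 : a * a * a = 1 := by
    calc a * a * a = e₀ * e₀ * (e₀ * e₀) := by rw [ha, he₀]; group
      _ = 1 := by rw [S.eGroup_sq ht he₀E, one_mul]
  have haz : a * z * a⁻¹ = u := by
    calc a * z * a⁻¹ = a₀ * (e₀ * z * e₀⁻¹) * a₀⁻¹ := by rw [ha]; group
      _ = u := by rw [he₀z, mul_inv_cancel_right, h0z]
  have hau : a * u * a⁻¹ = z * u := by
    calc a * u * a⁻¹ = a₀ * (e₀ * u * e₀⁻¹) * a₀⁻¹ := by rw [ha]; group
      _ = z * u := by rw [S.eGroup_comm ht he₀E huE, mul_inv_cancel_right, h0u]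
  have hazu : a * (z * u) * a⁻¹ = z := by rw [conj_mul_eq, haz, hau, ← mul_assoc, huz, mul_assoc, huu, mul_one]
  have hat : a * t = t * a := ((show Commute a₀ t from h0t).mul_left he₀t).eq
  have hat' : a * t * a⁻¹ = t := mul_inv_eq_iff_eq_mul.2 hat
  have hkeep : ∀ x, x * z = z * x → x * u = u * x →
      a * x * a⁻¹ * z = z * (a * x * a⁻¹) ∧ a * x * a⁻¹ * u = u * (a * x * a⁻¹) := by
    intro x hxz hxu
    refine ⟨?_, ?_⟩
    · have := conj_comm (g := a) (show x * (z * u) = z * u * x by rw [← mul_assoc, hxz, mul_assoc, hxu, mul_assoc])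
      rwa [hazu] at this
    · have := conj_comm (g := a) hxz
      rwa [haz] at this
  have haE : ∀ x ∈ S.eGroup t, a * x * a⁻¹ ∈ S.eGroup t := fun x hx => by
    obtain ⟨hxC, hxt⟩ := S.mem_eGroup.1 hx
    refine S.mem_eGroup.2 ⟨mem_centralizer_singleton_iff.2
      (hkeep x (S.comm_z hxC) (S.eGroup_comm ht hx huE)).1, ?_⟩
    have := conj_comm (g := a) hxt
    rwa [hat'] at this
  have hainv : ∀ x, a⁻¹ * x * a = a * (a * x * a⁻¹) * a⁻¹ := fun x => by
    have hi : a⁻¹ = a * a := inv_eq_of_mul_eq_one_right (by rw [← mul_assoc]; exact ha3)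
    calc a⁻¹ * x * a = a⁻¹ * x * (a⁻¹)⁻¹ := by rw [inv_inv]
      _ = a * a * x * (a * a)⁻¹ := by rw [hi]
      _ = a * (a * x * a⁻¹) * a⁻¹ := by group
  -- the elements of order three of the stabiliser
  let X := {x : G // orderOf x = 3 ∧ x ∈ centralizer ({z} : Set G) ∧ x * u = u * x ∧
    ∀ e ∈ S.eGroup t, x * e * x⁻¹ ∈ S.eGroup t}
  obtain ⟨n₀, hn₀⟩ : ∃ n, orderOf n = 3 ∧ n ∈ centralizer ({z} : Set G) ∧ n * u = u * n ∧
      ∀ e ∈ S.eGroup t, n * e * n⁻¹ ∈ S.eGroup t := by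
    obtain ⟨x, hx, hxC, hxu⟩ := S.exists_three_fix hu
    have hxu' : x * u * x⁻¹ = u := mul_inv_eq_iff_eq_mul.2 hxu
    obtain ⟨ox, hxE⟩ := S.two_steps hu ht htu (g := x) fun j hj hju => ⟨S.outer_conj hxC hj, by
      have := conj_comm (g := x) hju; rwa [hxu'] at this⟩
    refine ⟨x * x, ?_, mul_mem hxC hxC, ((show Commute x u from hxu).mul_left hxu).eq, fun e he => ?_⟩
    · rw [← pow_two, orderOf_pow, hx]; norm_num
    · rw [← S.eGroup_eq ht ox hxE]
      refine S.mem_eGroup.2 ⟨mul_mem (mul_mem (mul_mem hxC hxC) (S.mem_eGroup.1 he).1)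
        (inv_mem (mul_mem hxC hxC)), ?_⟩
      exact conj_comm (S.mem_eGroup.1 he).2
  let τ : Function.End X := fun x => ⟨n₀ * x.1 * n₀⁻¹, by
    have hC := hn₀.2.1
    have hnu := hn₀.2.2.1
    have hnE := hn₀.2.2.2
    refine ⟨by rw [LocalGen.orderOf_conj]; exact x.2.1, mul_mem (mul_mem hC x.2.2.1) (inv_mem hC), ?_, fun e he => ?_⟩
    · exact (((show Commute n₀ u from hnu).mul_left x.2.2.2.1).mul_left (Commute.inv_left hnu)).eq
    · have hinv : n₀⁻¹ * e * n₀ ∈ S.eGroup t := by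
        have h3 : n₀ * n₀ * n₀ = 1 := by
          have h' := pow_orderOf_eq_one n₀
          rwa [hn₀.1, pow_succ, pow_two] at h'
        have h1 := hnE _ (hnE e he)
        rwa [show n₀ * (n₀ * e * n₀⁻¹) * n₀⁻¹ = n₀⁻¹ * (n₀ * n₀ * n₀) * e * ((n₀ * n₀ * n₀)⁻¹ * n₀) by
          group, h3, mul_one, inv_one, one_mul] at h1
      have := hnE _ (x.2.2.2.2 _ hinv)
      convert this using 1
      group⟩
  let ρ : Function.End X := fun x => ⟨a * x.1 * a⁻¹, by
    refine ⟨by rw [LocalGen.orderOf_conj]; exact x.2.1, ?_, ?_, fun e he => ?_⟩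
    · exact mem_centralizer_singleton_iff.2 (hkeep _ (S.comm_z x.2.2.1) x.2.2.2.1).1
    · exact (hkeep _ (S.comm_z x.2.2.1) x.2.2.2.1).2
    · have hinv : a⁻¹ * e * a ∈ S.eGroup t := by rw [hainv]; exact haE _ (haE _ he)
      have := haE _ (x.2.2.2.2 _ hinv)
      convert this using 1
      group⟩
  have hn3 : n₀ * n₀ * n₀ = 1 := by
    have h' := pow_orderOf_eq_one n₀
    rwa [hn₀.1, pow_succ, pow_two] at h'
  have hτ : τ ^ 3 ^ 1 = 1 := by
    funext p
    apply Subtype.ext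
    show n₀ * (n₀ * (n₀ * p.1 * n₀⁻¹) * n₀⁻¹) * n₀⁻¹ = p.1
    calc _ = n₀ * n₀ * n₀ * p.1 * (n₀ * n₀ * n₀)⁻¹ := by group
      _ = p.1 := by rw [hn3]; group
  have hρ : ρ ^ 3 ^ 1 = 1 := by
    funext p
    apply Subtype.ext
    show a * (a * (a * p.1 * a⁻¹) * a⁻¹) * a⁻¹ = p.1
    calc _ = a * a * a * p.1 * (a * a * a)⁻¹ := by group
      _ = p.1 := by rw [ha3]; group
  have hfixτ : Fintype.card (Function.fixedPoints τ) = 2 := by
    have hn1 : n₀ ≠ 1 := fun e => by simp [e] at hn₀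
    have hne : n₀ ≠ n₀⁻¹ := fun e => hn1 (by
      have h2 : n₀ * n₀ = 1 := by nth_rw 2 [e]; rw [mul_inv_cancel]
      rwa [h2, one_mul] at hn3)
    rw [← Nat.card_eq_fintype_card, ← Finset.card_pair hne, ← Fintype.card_coe, ← Nat.card_eq_fintype_card]
    refine Nat.card_eq_of_bijective (fun p => ⟨p.1.1, ?_⟩) ⟨fun p q e => ?_, fun w => ?_⟩
    · have hp : n₀ * p.1.1 = p.1.1 * n₀ := mul_inv_eq_iff_eq_mul.1 (congrArg Subtype.val p.2)
      have hs := a5_self_three (S.φ ⟨n₀, hn₀.2.1⟩) (S.φ ⟨p.1.1, p.1.2.2.1⟩)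
        (by rw [← map_pow]; exact (S.ker _).2 (by
          rw [show ((⟨n₀, hn₀.2.1⟩ : ↥(centralizer ({z} : Set G))) ^ 3 : ↥(centralizer ({z} : Set G))).1 = 1 by
            show n₀ ^ 3 = 1; rw [pow_succ, pow_two]; exact hn3]; exact one_mem Q))
        (fun e => hn1 (by
          have h := orderOf_dvd_natCard (⟨n₀, (S.ker _).1 e⟩ : ↥Q)
          rw [S.card, Subgroup.orderOf_mk, hn₀.1] at h
          norm_num at h))
        (by rw [← map_mul, ← map_mul]; exact congrArg S.φ (Subtype.ext hp.symm))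
      have hp3 : p.1.1 * p.1.1 * p.1.1 = 1 := by
        have h' := pow_orderOf_eq_one p.1.1
        rwa [p.1.2.1, pow_succ, pow_two] at h'
      have hQ3 : ∀ q ∈ Q, q * q * q = 1 → q = 1 := fun q hq h3 => by
        rcases S.sq q hq with e | e
        · rwa [e, one_mul] at h3
        · exfalso
          rw [e] at h3
          have hq' : q = z := by rw [← S.z_mul_z_mul q, h3, mul_one]
          rw [hq', S.zz] at e
          exact S.z_ne e.symm
      simp only [Finset.mem_insert, Finset.mem_singleton]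
      rcases hs with e | e | e
      · exfalso
        have hQ := (S.ker _).1 e
        exact absurd (hQ3 _ hQ hp3) fun h1 => by have := p.1.2.1; rw [h1, orderOf_one] at this; omega
      · refine Or.inl (mul_inv_eq_one.1 (hQ3 _ ((S.ker ⟨p.1.1 * n₀⁻¹, mul_mem p.1.2.2.1 (inv_mem hn₀.2.1)⟩).1 ?_) ?_))
        · show S.φ (⟨p.1.1, p.1.2.2.1⟩ * ⟨n₀, hn₀.2.1⟩⁻¹) = 1
          rw [map_mul, map_inv, e, mul_inv_cancel]
        · have hc : Commute p.1.1 n₀⁻¹ := Commute.inv_right hp.symm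
          rw [show p.1.1 * n₀⁻¹ * (p.1.1 * n₀⁻¹) * (p.1.1 * n₀⁻¹) = (p.1.1 * n₀⁻¹) ^ 3 by rw [pow_succ, pow_two],
            hc.mul_pow, inv_pow, pow_succ, pow_two, hp3, pow_succ, pow_two, hn3, inv_one, mul_one]
      · refine Or.inr (eq_inv_of_mul_eq_one_left (hQ3 _ ((S.ker ⟨p.1.1 * n₀, mul_mem p.1.2.2.1 hn₀.2.1⟩).1 ?_) ?_))
        · show S.φ (⟨p.1.1, p.1.2.2.1⟩ * ⟨n₀, hn₀.2.1⟩) = 1
          rw [map_mul, e, ← map_mul, ← map_mul]
          exact (S.ker _).2 (by show n₀ * n₀ * n₀ ∈ Q; rw [hn3]; exact one_mem Q)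
        · have hc : Commute p.1.1 n₀ := hp.symm
          rw [show p.1.1 * n₀ * (p.1.1 * n₀) * (p.1.1 * n₀) = (p.1.1 * n₀) ^ 3 by rw [pow_succ, pow_two],
            hc.mul_pow, pow_succ, pow_two, hp3, pow_succ, pow_two, hn3, mul_one]
    · exact Subtype.ext (Subtype.ext (congrArg Subtype.val e :))
    · have hi : n₀⁻¹ = n₀ * n₀ := inv_eq_of_mul_eq_one_right (by rw [← mul_assoc]; exact hn3)
      obtain ⟨hCn, hnu, hnE⟩ := hn₀.2
      rcases Finset.mem_insert.1 w.2 with e | e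
      · exact ⟨⟨⟨n₀, hn₀⟩, Subtype.ext (by show n₀ * n₀ * n₀⁻¹ = n₀; group)⟩, Subtype.ext e.symm⟩
      · rw [Finset.mem_singleton] at e
        refine ⟨⟨⟨n₀⁻¹, by rw [orderOf_inv]; exact hn₀.1, inv_mem hCn, (Commute.inv_left hnu).eq, fun x hx => ?_⟩,
          Subtype.ext (by show n₀ * n₀⁻¹ * n₀⁻¹ = n₀⁻¹; group)⟩, Subtype.ext e.symm⟩
        rw [hi]
        convert hnE _ (hnE x hx) using 1
        group
  have hX := Equiv.Perm.card_fixedPoints_modEq hτ
  rw [hfixτ] at hX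
  have hX' := hX.symm.trans (Equiv.Perm.card_fixedPoints_modEq hρ)
  obtain ⟨⟨n, hno, hnC, hnu, hnE⟩, hnfix⟩ : (Function.fixedPoints ρ).Nonempty := by
    by_contra hno
    rw [Set.not_nonempty_iff_eq_empty] at hno
    have h0 : Fintype.card (Function.fixedPoints ρ) = 0 :=
      Fintype.card_eq_zero_iff.2 ⟨fun p => by simpa [hno] using p.2⟩
    rw [h0] at hX'
    exact absurd hX' (by decide)
  have han : a * n = n * a := mul_inv_eq_iff_eq_mul.1 (congrArg Subtype.val hnfix)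
  have hn3' : n * n * n = 1 := by
    have h' := pow_orderOf_eq_one n
    rwa [hno, pow_succ, pow_two] at h'
  have hn1 : n ≠ 1 := fun e => by rw [e, orderOf_one] at hno; omega
  have hnE' : ∀ v, Outer z Q v → n * v ≠ v * n := fun v hv e => by
    have hv2 := S.eGroup_sq hv (S.mem_eGroup.2 ⟨hnC, e⟩)
    rw [hv2, one_mul] at hn3'
    exact hn1 hn3'
  set b := n * t * n⁻¹ with hb
  set d := n * b * n⁻¹ with hd
  have hbE : b ∈ S.eGroup t := hnE t (S.self_mem ht)
  have hdE : d ∈ S.eGroup t := hnE b hbE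
  have hdt : n * d * n⁻¹ = t := by
    calc n * d * n⁻¹ = n * n * n * t * (n * n * n)⁻¹ := by rw [hd, hb]; group
      _ = t := by rw [hn3']; group
  set p := t * b * d with hp
  have hpE : p ∈ S.eGroup t := mul_mem (mul_mem (S.self_mem ht) hbE) hdE
  have hpn : n * p * n⁻¹ = p := by
    rw [hp, conj_mul_eq, conj_mul_eq, ← hb, ← hd, hdt]
    exact S.eGroup_comm ht (mul_mem hbE hdE) (S.self_mem ht) |>.trans (mul_assoc _ _ _).symm
  have hpa : a * p = p * a := by
    have hb' : Commute a b := ((show Commute a n from han).mul_right hat).mul_right (Commute.inv_right han)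
    have hd' : Commute a d := ((show Commute a n from han).mul_right hb').mul_right (Commute.inv_right han)
    exact (((show Commute a t from hat).mul_right hb').mul_right hd').eq
  have hp1 : p = 1 := by
    by_cases hpQ : p ∈ Q
    · rcases S.four_cases hu hpQ (S.eGroup_sq ht hpE) (S.eGroup_comm ht hpE huE) with e | e | e | e
      · exact e
      · exfalso; rw [e] at hpa; exact hu.2.2.2 (haz.symm.trans (mul_inv_eq_iff_eq_mul.2 hpa))
      · exfalso; rw [e] at hpa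
        exact S.z_ne (mul_eq_right.1 (hau.symm.trans (mul_inv_eq_iff_eq_mul.2 hpa)))
      · exfalso; rw [e] at hpa
        exact hu.2.2.1 (left_eq_mul.1 (hazu.symm.trans (mul_inv_eq_iff_eq_mul.2 hpa)))
    · exact absurd (mul_inv_eq_iff_eq_mul.1 hpn) (hnE' p ⟨(S.mem_eGroup.1 hpE).1, S.eGroup_sq ht hpE, hpQ⟩)
  have hnt : n * t * (n * t) * (n * t) = 1 := by
    calc n * t * (n * t) * (n * t) = b * d * (n * n * n) * t := by rw [hd, hb]; group
      _ = b * d * t := by rw [hn3', mul_one]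
      _ = 1 := by
        rw [S.eGroup_comm ht (mul_mem hbE hdE) (S.self_mem ht), ← mul_assoc, ← hp, hp1]
  have htt2 : t * (n * t * n⁻¹) = n⁻¹ * t * n := by
    have hd2 : d * d = 1 := S.eGroup_sq ht hdE
    calc t * (n * t * n⁻¹) = t * b * (d * d) := by rw [hd2, mul_one]
      _ = d := by rw [← mul_assoc, ← hp, hp1, one_mul]
      _ = n⁻¹ * (n * d * n⁻¹) * n := by group
      _ = n⁻¹ * t * n := by rw [hdt]
  have A : Alt S.toHyp t n u := ⟨ht, hnC, hn3', hn1, hnt, htt2, hu, htu, hnu⟩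
  obtain ⟨c, hc, hcn, hct, hcu, hgen⟩ := A.exists_c
  refine ⟨u, t, c, n, a, ⟨⟨S.zz, huu, ht.2.1, hc.2.1, hn3', ha3, huz.symm, (S.comm_z ht.1).symm,
    (S.comm_z hnC).symm, (S.comm_z hc.1).symm, htu.symm, hnu.symm, hnt, hat, han, haz, hau, ?_, hct⟩,
    hu, ht, hc, hno, hcu, hgen⟩⟩
  rw [hcn, inv_mul_cancel]

end One

end CfsgLib.JThreeUnique
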