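import Cfsg.Agent.Lib.JThreeUnique.ThreeQuo
import Cfsg.Agent.Lib.JThreeUnique.CertCollapse
import Cfsg.Agent.Lib.JThreeUnique.Local
import Cfsg.Agent.Lib.HJType.LocalC

/-!
The centraliser of the element `n` of order three: modulo `⟨n⟩` it is a group of order 168 or 360, and
the two relations of the third Janko group follow.
-/

set_option autoImplicit false
set_option linter.unusedSectionVars false

namespace CfsgLib.JThreeUnique

open Subgroup CfsgLib.HJType

variable {G : Type*} [Group G]

theorem mem_three {n x : G} (hn : orderOf n = 3) (hx : x ∈ zpowers n) : x = 1 ∨ x = n ∨ x = n⁻¹ := by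
  obtain ⟨i, rfl⟩ := hx
  have h3 : n ^ 3 = 1 := hn ▸ pow_orderOf_eq_one n
  show n ^ i = 1 ∨ n ^ i = n ∨ n ^ i = n⁻¹
  rw [← zpow_mod_orderOf, hn]
  rcases (by omega : i % ((3 : ℕ) : ℤ) = 0 ∨ i % ((3 : ℕ) : ℤ) = 1 ∨ i % ((3 : ℕ) : ℤ) = 2) with e | e | e <;>
    rw [e]
  exacts [Or.inl (zpow_zero n), Or.inr (Or.inl (zpow_one n)), Or.inr (Or.inr (eq_inv_of_mul_eq_one_left (by
    rw [show (2 : ℤ) = ((2 : ℕ) : ℤ) from rfl, zpow_natCast, ← pow_succ, h3])))]

theorem eq_one_of_sq_mem {n x : G} (hn : orderOf n = 3) (hx : x ∈ zpowers n) (h2 : x * x = 1) : x = 1 := by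
  have h3 : x ^ 3 = 1 := by
    obtain ⟨i, rfl⟩ := hx
    rw [← zpow_natCast, ← zpow_mul, mul_comm, zpow_mul, zpow_natCast, ← hn, pow_orderOf_eq_one, one_zpow]
  rw [← h3, pow_succ, pow_two, h2, one_mul]

theorem comm_of_mem {n g q : G} (hg : n * g = g * n) (hq : q ∈ zpowers n) : Commute g q := by
  obtain ⟨i, rfl⟩ := hq
  exact (Commute.symm hg).zpow_right i

/-- `⟨n⟩` inside the centraliser of `n`. -/
def kerN (n : G) : Subgroup ↥(centralizer ({n} : Set G)) :=
  (zpowers n).subgroupOf (centralizer ({n} : Set G))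

instance kerN_normal (n : G) : (kerN n).Normal := ⟨fun x hx g => by
  have e : g * x * g⁻¹ = x := Subtype.ext (mul_inv_eq_iff_eq_mul.2
    ((comm_of_mem (mem_centralizer_singleton_iff.1 g.2).symm hx).eq))
  rw [e]; exact hx⟩

/-- The centraliser of `n` modulo `⟨n⟩`. -/
abbrev Quo (n : G) : Type _ := ↥(centralizer ({n} : Set G)) ⧸ kerN n

/-- The image of an element centralising `n`. -/
def cls {n x : G} (h : n * x = x * n) : Quo n :=
  QuotientGroup.mk (⟨x, mem_centralizer_singleton_iff.2 h.symm⟩ : ↥(centralizer ({n} : Set G)))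

theorem cls_eq_one {n x : G} (h : n * x = x * n) : cls h = 1 ↔ x ∈ zpowers n :=
  QuotientGroup.eq_one_iff _

theorem cls_congr {n x y : G} (hx : n * x = x * n) (hy : n * y = y * n) (e : x = y) : cls hx = cls hy := by
  subst e; rfl

theorem mul_comm_of {n x y : G} (hx : n * x = x * n) (hy : n * y = y * n) : n * (x * y) = x * y * n := by
  rw [← mul_assoc, hx, mul_assoc, hy, ← mul_assoc]

theorem inv_comm_of {n x : G} (hx : n * x = x * n) : n * x⁻¹ = x⁻¹ * n :=
  (Commute.inv_right (show Commute n x from hx)).eq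

theorem cls_mul {n x y : G} (hx : n * x = x * n) (hy : n * y = y * n) :
    cls hx * cls hy = cls (mul_comm_of hx hy) := rfl

theorem cls_inv {n x : G} (hx : n * x = x * n) :
    (cls hx)⁻¹ = cls (inv_comm_of hx) := rfl

theorem cls_eq {n x y : G} (hx : n * x = x * n) (hy : n * y = y * n) :
    cls hx = cls hy ↔ x⁻¹ * y ∈ zpowers n := by
  rw [← inv_mul_eq_one, cls_inv, cls_mul, cls_eq_one]

theorem exists_cls {n : G} (q : Quo n) : ∃ x, ∃ h : n * x = x * n, cls h = q := by
  obtain ⟨x, rfl⟩ := QuotientGroup.mk_surjective q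
  exact ⟨x, (mem_centralizer_singleton_iff.1 x.2).symm, rfl⟩

variable [Finite G]

/-- The preimage of a centraliser in the quotient. -/
theorem card_preimage {n y : G} (hn : orderOf n = 3) (hy : n * y = y * n) :
    Nat.card ↥((centralizer ({cls hy} : Set (Quo n))).comap (QuotientGroup.mk' (kerN n))) =
      3 * Nat.card ↥(centralizer ({cls hy} : Set (Quo n))) := by
  set C := centralizer ({cls hy} : Set (Quo n))
  have h1 := C.card_mul_index
  have h2 := (C.comap (QuotientGroup.mk' (kerN n))).card_mul_index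
  rw [Subgroup.index_comap_of_surjective _ (QuotientGroup.mk'_surjective _),
    Subgroup.card_eq_card_quotient_mul_card_subgroup (kerN n)] at h2
  have h3 : Nat.card (kerN n) = 3 := by
    have hle : zpowers n ≤ centralizer ({n} : Set G) :=
      zpowers_le.2 (mem_centralizer_singleton_iff.2 rfl)
    rw [kerN, Nat.card_congr (Subgroup.subgroupOfEquivOfLe hle).toEquiv, Nat.card_zpowers, hn]
  rw [h3] at h2
  refine Nat.eq_of_mul_eq_mul_right (Nat.pos_of_ne_zero (FiniteIndex.index_ne_zero (H := C))) ?_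
  rw [h2, mul_assoc, h1, mul_comm]

/-- An element moved inside its coset has centraliser of index three in the preimage. -/
theorem card_inf_of_moved {n y : G} (hn : orderOf n = 3) (hy : n * y = y * n) {f : G}
    (hf : n * f = f * n) (hmem : f * y * f⁻¹ * y⁻¹ ∈ zpowers n) (hne : f * y * f⁻¹ ≠ y) :
    Nat.card ↥(centralizer ({n} : Set G) ⊓ centralizer ({y} : Set G)) =
      Nat.card ↥(centralizer ({cls hy} : Set (Quo n))) := by
  have : Fact (Nat.Prime 3) := ⟨Nat.prime_three⟩
  set P := (centralizer ({cls hy} : Set (Quo n))).comap (QuotientGroup.mk' (kerN n)) with hP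
  have hmemP : ∀ k : ↥(centralizer ({n} : Set G)), k ∈ P ↔ (k : G) * y * (k : G)⁻¹ * y⁻¹ ∈ zpowers n := by
    intro k
    rw [hP, mem_comap, mem_centralizer_singleton_iff]
    show cls (mem_centralizer_singleton_iff.1 k.2).symm * cls hy =
      cls hy * cls (mem_centralizer_singleton_iff.1 k.2).symm ↔ _
    rw [← mul_inv_eq_iff_eq_mul, ← mul_inv_eq_one, cls_inv, cls_inv, cls_mul, cls_mul, cls_mul, cls_eq_one]
  let ψ : ↥P →* ↥(zpowers n) :=
    { toFun := fun k => ⟨(k.1 : G) * y * (k.1 : G)⁻¹ * y⁻¹, (hmemP k.1).1 k.2⟩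
      map_one' := by ext; simp
      map_mul' := fun a b => by
        have hc : Commute (a.1 : G) ((b.1 : G) * y * (b.1 : G)⁻¹ * y⁻¹) :=
          comm_of_mem (mem_centralizer_singleton_iff.1 a.1.2).symm ((hmemP b.1).1 b.2)
        have hc' : Commute ((b.1 : G) * y * (b.1 : G)⁻¹ * y⁻¹) ((a.1 : G) * y * (a.1 : G)⁻¹ * y⁻¹) := by
          obtain ⟨i, hi⟩ := (hmemP b.1).1 b.2
          obtain ⟨j, hj⟩ := (hmemP a.1).1 a.2
          rw [← show n ^ i = _ from hi, ← show n ^ j = _ from hj]
          exact Commute.zpow_zpow (Commute.refl n) i j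
        ext
        show (a.1 : G) * b.1 * y * ((a.1 : G) * b.1)⁻¹ * y⁻¹ =
          (a.1 : G) * y * (a.1 : G)⁻¹ * y⁻¹ * ((b.1 : G) * y * (b.1 : G)⁻¹ * y⁻¹)
        rw [show (a.1 : G) * b.1 * y * ((a.1 : G) * b.1)⁻¹ * y⁻¹ =
          (a.1 : G) * ((b.1 : G) * y * (b.1 : G)⁻¹ * y⁻¹) * (a.1 : G)⁻¹ *
            ((a.1 : G) * y * (a.1 : G)⁻¹ * y⁻¹) by group, hc.eq, mul_inv_cancel_right, hc'.eq] }
  have hker : Nat.card ψ.ker = Nat.card ↥(centralizer ({n} : Set G) ⊓ centralizer ({y} : Set G)) :=
    Nat.card_congr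
      { toFun := fun k => ⟨k.1.1, mem_inf.2 ⟨k.1.1.2, mem_centralizer_singleton_iff.2 (by
          have h1 : (k.1.1 : G) * y * (k.1.1 : G)⁻¹ * y⁻¹ = 1 := congrArg Subtype.val (MonoidHom.mem_ker.1 k.2)
          exact mul_inv_eq_iff_eq_mul.1 (mul_inv_eq_one.1 h1))⟩⟩
        invFun := fun k => ⟨⟨⟨k, (mem_inf.1 k.2).1⟩, (hmemP _).2 (by
            rw [mem_centralizer_singleton_iff.1 (mem_inf.1 k.2).2, mul_inv_cancel_right, mul_inv_cancel]
            exact one_mem _)⟩,
          MonoidHom.mem_ker.2 (Subtype.ext (by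
            show (k : G) * y * (k : G)⁻¹ * y⁻¹ = 1
            rw [mem_centralizer_singleton_iff.1 (mem_inf.1 k.2).2, mul_inv_cancel_right, mul_inv_cancel]))⟩ }
  have hrange : Nat.card ψ.range = 3 := by
    have hd := ψ.range.card_subgroup_dvd_card
    rw [Nat.card_zpowers, hn] at hd
    rcases (Nat.dvd_prime Nat.prime_three).1 hd with e | e
    · exfalso
      have hbot : ψ.range = ⊥ := Subgroup.card_eq_one.1 e
      have hfP : (⟨f, mem_centralizer_singleton_iff.2 hf.symm⟩ : ↥(centralizer ({n} : Set G))) ∈ P :=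
        (hmemP _).2 hmem
      have h1 : ψ ⟨_, hfP⟩ ∈ ψ.range := ⟨_, rfl⟩
      rw [hbot, mem_bot] at h1
      exact hne (mul_inv_eq_one.1 (congrArg Subtype.val h1))
    · exact e
  have h := Subgroup.card_eq_card_quotient_mul_card_subgroup ψ.ker
  rw [Nat.card_congr (QuotientGroup.quotientKerEquivRange ψ).toEquiv, hrange, hker, hP,
    card_preimage hn hy] at h
  exact (Nat.eq_of_mul_eq_mul_left (by norm_num) h).symm

variable {z : G} {Q : Subgroup G} {u t c n a : G}

namespace Gens

variable (S : One z Q) (g : Gens z Q u t c n a)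
include S g

theorem c_inv : c⁻¹ = c := inv_eq_of_mul_eq_one_right g.base.c2

theorem ccc (x : G) : c * (c * x) = x := by rw [← mul_assoc, g.base.c2, one_mul]

theorem a_ne : a ≠ 1 := fun e => by
  have h1 := g.base.az
  rw [e, one_mul, inv_one, mul_one] at h1
  exact g.us.2.2.2 h1.symm

theorem a_not : a * z ≠ z * a := fun e => by
  have h1 := g.base.az
  rw [e, mul_inv_cancel_right] at h1
  exact g.us.2.2.2 h1.symm

theorem n_nC : n ∈ centralizer ({z} : Set G) := mem_centralizer_singleton_iff.2 g.base.zn.symm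

theorem cnc : c * n * c = n⁻¹ := eq_inv_of_mul_eq_one_left g.base.cn

theorem cconj {x : G} (hx : n * x = x * n) : n * (c * x * c) = c * x * c * n := by
  have h1 : Commute n⁻¹ x := Commute.inv_left hx
  have h2 : c * n⁻¹ * c = n := by
    rw [← g.cnc S, show c * (c * n * c) * c = (c * c) * n * (c * c) by group, g.base.c2, one_mul, mul_one]
  calc n * (c * x * c) = c * n⁻¹ * c * (c * x * c) := by rw [h2]
    _ = c * (n⁻¹ * (c * c) * x) * c := by group
    _ = c * (x * n⁻¹) * c := by rw [g.base.c2, mul_one, h1.eq]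
    _ = c * x * (c * c) * n⁻¹ * c := by rw [g.base.c2]; group
    _ = c * x * c * (c * n⁻¹ * c) := by group
    _ = c * x * c * n := by rw [h2]

theorem nz : n * z = z * n := g.base.zn.symm
theorem nu : n * u = u * n := g.base.un.symm
theorem na : n * a = a * n := g.base.an.symm
theorem nv : n * (c * u * c) = c * u * c * n := g.cconj S (g.nu S)
theorem nd : n * (c * a * c) = c * a * c * n := g.cconj S (g.na S)

theorem czc : c * z * c = z := by rw [← g.base.zc, mul_assoc, g.base.c2, mul_one]

theorem vs : Sing z Q (c * u * c) := by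
  have := S.sing_conj_mem g.cO.1 g.us
  rwa [g.c_inv S] at this

theorem vu : c * u * c * u = z * (u * (c * u * c)) :=
  S.sing_anticomm (g.vs S) g.us fun e => g.moves (S.eqv_symm e)

theorem uv_ne : u * (c * u * c) ≠ c * u * c * u := fun e => S.z_ne (mul_eq_right.1
  ((g.vu S).symm.trans e.symm))

theorem uv2 : u * (c * u * c) * (u * (c * u * c)) = z := by
  rw [show u * (c * u * c) * (u * (c * u * c)) = u * (c * u * c * u) * (c * u * c) by group, g.vu S,
    show u * (z * (u * (c * u * c))) * (c * u * c) = u * z * u * ((c * u * c) * (c * u * c)) by group,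
    (g.vs S).2.1, mul_one, S.comm_zQ g.us.1, mul_assoc, g.base.u2, mul_one]

theorem d_inv : (c * a * c)⁻¹ = c * a⁻¹ * c := by
  rw [mul_inv_rev, mul_inv_rev, g.c_inv S, mul_assoc]

theorem dz : c * a * c * z * (c * a * c)⁻¹ = c * u * c := by
  rw [g.d_inv S, ← g.base.az, show c * a * c * z * (c * a⁻¹ * c) = c * (a * (c * z * c) * a⁻¹) * c by group,
    g.czc S]

theorem dv : c * a * c * (c * u * c) * (c * a * c)⁻¹ = z * (c * u * c) := by
  rw [g.d_inv S, show c * a * c * (c * u * c) * (c * a⁻¹ * c) = c * a * (c * c) * u * (c * c) * a⁻¹ * c by group,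
    g.base.c2, show c * a * 1 * u * 1 * a⁻¹ * c = c * (a * u * a⁻¹) * c by group, g.base.au, ← mul_assoc c z u,
    ← g.base.zc]
  simp only [mul_assoc]

/-- The fixed points of `n` on `Q`. -/
theorem card_kerQ : Nat.card ↥(Q ⊓ centralizer ({n} : Set G)) = 8 := by
  classical
  have := Fintype.ofFinite G
  have : Fact (Nat.Prime 3) := ⟨Nat.prime_three⟩
  have : Fact (Nat.Prime 2) := ⟨Nat.prime_two⟩
  set K := Q ⊓ centralizer ({n} : Set G) with hK
  obtain ⟨k, hk⟩ := IsPGroup.iff_card.1
    ((IsPGroup.of_card (p := 2) (n := 5) (by rw [S.card]; norm_num)).to_le (inf_le_left : K ≤ Q))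
  have hu : u ∈ K := mem_inf_centralizer.2 ⟨g.us.1, g.base.un⟩
  have hv : c * u * c ∈ K := mem_inf_centralizer.2 ⟨(g.vs S).1, (g.nv S).symm⟩
  have hk3 : 3 ≤ k := by
    by_contra hlt
    have hcomm : ∀ p q : ↥K, p * q = q * p := by
      intro p q
      interval_cases k
      · have : Subsingleton K := Finite.card_le_one_iff_subsingleton.1 hk.le
        exact Subsingleton.elim _ _
      · have : IsCyclic K := isCyclic_of_prime_card (p := 2) (by rw [hk, pow_one])
        exact IsCyclic.commutative.is_comm.comm p q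
      · exact (IsPGroup.commGroupOfCardEqPrimeSq (p := 2) (G := K) hk).mul_comm p q
    exact g.uv_ne S (congrArg Subtype.val (hcomm ⟨u, hu⟩ ⟨_, hv⟩))
  have hne : Nat.card ↥K ≠ 32 := fun e => by
    have hKQ : K = Q := Subgroup.eq_of_le_of_card_ge inf_le_left (by rw [e, S.card])
    have hnQ : n ∈ Q := S.self n (g.n_nC S) fun q hq => (mem_inf_centralizer.1 (hKQ ▸ hq : q ∈ K)).2
    have := orderOf_dvd_natCard (⟨n, hnQ⟩ : ↥Q)
    rw [S.card, Subgroup.orderOf_mk, g.nord] at this
    norm_num at this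
  let σ : Equiv.Perm ↥Q :=
    { toFun := fun y => ⟨n * y * n⁻¹, S.norm n (g.n_nC S) y y.2⟩
      invFun := fun y => ⟨n⁻¹ * y * n, S.norm' (g.n_nC S) y.2⟩
      left_inv := fun y => by ext; simp [mul_assoc]
      right_inv := fun y => by ext; simp [mul_assoc] }
  have hσpow : ∀ (m : ℕ) (y : ↥Q), (((σ ^ m) y : ↥Q) : G) = n ^ m * y * (n ^ m)⁻¹ := by
    intro m
    induction m with
    | zero => simp
    | succ m ih =>
      intro y
      rw [pow_succ', Equiv.Perm.mul_apply]
      show n * ((σ ^ m) y : ↥Q) * n⁻¹ = _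
      rw [ih, pow_succ']; group
  have hn3 : n ^ 3 = 1 := g.nord ▸ pow_orderOf_eq_one n
  have hσ3 : σ ^ 3 = 1 := by ext y; rw [hσpow, hn3]; simp
  have hfix : ∀ y : ↥Q, σ y = y ↔ (y : G) ∈ K := by
    intro y
    rw [hK, mem_inf_centralizer, Subtype.ext_iff]
    show n * y * n⁻¹ = y ↔ _
    rw [mul_inv_eq_iff_eq_mul]
    exact ⟨fun e => ⟨y.2, e.symm⟩, fun e => e.2.symm⟩
  have hmod : Fintype.card {y : ↥Q // ¬ (y : G) ∈ K} % 3 = 0 := by
    by_contra hnd
    have hstab : ∀ y : ↥Q, ¬ ((σ y : ↥Q) : G) ∈ K ↔ ¬ (y : G) ∈ K := fun y => by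
      rw [← hfix, ← hfix]; exact not_congr σ.injective.eq_iff
    obtain ⟨y, hy⟩ := Equiv.Perm.exists_fixed_point_of_prime (p := 3) (n := 1)
      (fun e => hnd (Nat.mod_eq_zero_of_dvd e)) (σ := σ.subtypePerm hstab) (by
      ext y
      simp only [pow_one, Equiv.Perm.subtypePerm_pow, Equiv.Perm.subtypePerm_apply, hσ3]
      rfl)
    exact y.2 ((hfix y.1).1 (congrArg Subtype.val hy))
  rw [Fintype.card_subtype_compl] at hmod
  have e1 : Fintype.card ↥Q = 32 := by rw [← Nat.card_eq_fintype_card]; exact S.card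
  have e2 : Fintype.card {y : ↥Q // (y : G) ∈ K} = Nat.card K := by
    rw [← Nat.card_eq_fintype_card]
    exact Nat.card_congr
      { toFun := fun y => ⟨y.1.1, y.2⟩
        invFun := fun y => ⟨⟨y.1, (mem_inf.1 y.2).1⟩, y.2⟩ }
  have hle : Nat.card ↥K ≤ 32 := S.card ▸ Subgroup.card_le_of_le inf_le_left
  rw [e1, e2] at hmod
  rw [hk] at hle hne hmod ⊢
  have : k ≤ 5 := by
    by_contra h
    have := Nat.pow_le_pow_right (show 1 ≤ 2 by norm_num) (show 6 ≤ k by omega)
    omega
  interval_cases k <;> omega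

theorem card_cent : Nat.card ↥(centralizer ({cls (g.nz S)} : Set (Quo n))) = 8 := by
  have : Fact (Nat.Prime 3) := ⟨Nat.prime_three⟩
  let ψ : ↥(centralizer ({z} : Set G) ⊓ centralizer ({n} : Set G)) →* Quo n :=
    (QuotientGroup.mk' (kerN n)).comp (Subgroup.inclusion inf_le_right)
  have hrange : ψ.range = centralizer ({cls (g.nz S)} : Set (Quo n)) := by
    refine le_antisymm ?_ fun q hq => ?_
    · rintro _ ⟨x, rfl⟩
      refine mem_centralizer_singleton_iff.2 ?_
      show cls (mem_centralizer_singleton_iff.1 (mem_inf.1 x.2).2).symm * cls (g.nz S) =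
        cls (g.nz S) * cls (mem_centralizer_singleton_iff.1 (mem_inf.1 x.2).2).symm
      rw [cls_mul, cls_mul]
      exact cls_congr _ _ (mem_centralizer_singleton_iff.1 (mem_inf.1 x.2).1)
    · obtain ⟨x, hx, rfl⟩ := exists_cls q
      have h1 := mem_centralizer_singleton_iff.1 hq
      rw [cls_mul, cls_mul, cls_eq] at h1
      have hxz : x * z = z * x := by
        have h2 : z⁻¹ * (x⁻¹ * z * x) = 1 := by
          have h3 : (x * z)⁻¹ * (z * x) ∈ zpowers n := h1
          rw [show (x * z)⁻¹ * (z * x) = z⁻¹ * (x⁻¹ * z * x) by group] at h3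
          have hc : Commute z (z⁻¹ * (x⁻¹ * z * x)) := comm_of_mem (g.nz S) h3
          set q := z⁻¹ * (x⁻¹ * z * x) with hq
          have hsq : q * q = 1 := by
            calc q * q = (z * z) * (q * q) := by rw [S.zz, one_mul]
              _ = z * q * (z * q) := by
                rw [show z * q * (z * q) = z * (q * z) * q by group, ← hc.eq]; group
              _ = x⁻¹ * (z * z) * x := by rw [hq]; group
              _ = 1 := by rw [S.zz, mul_one, inv_mul_cancel]
          exact eq_one_of_sq_mem g.nord h3 hsq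
        have h4 := inv_mul_eq_one.1 h2
        nth_rw 1 [h4]
        group
      exact ⟨⟨x, mem_inf.2 ⟨mem_centralizer_singleton_iff.2 hxz, mem_centralizer_singleton_iff.2 hx.symm⟩⟩,
        rfl⟩
  have hker : Nat.card ψ.ker = 3 := by
    rw [← g.nord, ← Nat.card_zpowers]
    exact Nat.card_congr
      { toFun := fun k => ⟨k.1.1, (QuotientGroup.eq_one_iff (Subgroup.inclusion inf_le_right k.1)).1 k.2⟩
        invFun := fun k => ⟨⟨k, mem_inf.2 ⟨(zpowers_le.2 (g.n_nC S) : zpowers n ≤ _) k.2,
            (zpowers_le.2 (mem_centralizer_singleton_iff.2 rfl) : zpowers n ≤ centralizer ({n} : Set G)) k.2⟩⟩,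
          (QuotientGroup.eq_one_iff _).2 k.2⟩ }
  have h := Subgroup.card_eq_card_quotient_mul_card_subgroup ψ.ker
  rw [Nat.card_congr (QuotientGroup.quotientKerEquivRange ψ).toEquiv, hrange, hker,
    S.cent_C (Or.inl rfl) (g.n_nC S) g.nord, g.card_kerQ S] at h
  omega

theorem c_mem {x : G} (hx : x ∈ zpowers n) : c * x * c ∈ zpowers n := by
  obtain ⟨i, rfl⟩ := hx
  refine ⟨-i, ?_⟩
  show n ^ (-i) = c * n ^ i * c
  nth_rw 2 [← g.c_inv S]
  rw [← conj_zpow, g.c_inv S, g.cnc S, inv_zpow, zpow_neg]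

theorem sym_aux :
    a * (z * (c * u * c)) * (a * (z * (c * u * c))) ∈ zpowers n ↔
      c * a * c * (z * u) * (c * a * c * (z * u)) ∈ zpowers n := by
  have e : c * (a * (z * (c * u * c))) * c = c * a * c * (z * u) := by
    calc c * (a * (z * (c * u * c))) * c = c * a * (z * c) * u * (c * c) := by group
      _ = c * a * (c * z) * u := by rw [g.base.c2, mul_one, g.base.zc]
      _ = _ := by group
  have e2 : ∀ x : G, c * (x * x) * c = c * x * c * (c * x * c) := fun x => by
    rw [show c * x * c * (c * x * c) = c * x * (c * c) * x * c by group, g.base.c2]; group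
  constructor
  · intro h; have := g.c_mem S h; rwa [e2, e] at this
  · intro h
    rw [← e, ← e2] at h
    have := g.c_mem S h
    rwa [show c * (c * (a * (z * (c * u * c)) * (a * (z * (c * u * c)))) * c) * c =
      (c * c) * (a * (z * (c * u * c)) * (a * (z * (c * u * c)))) * (c * c) by group, g.base.c2, one_mul,
      mul_one] at this

/-- The data in the quotient. -/
theorem quo : QuoData (cls (g.nz S)) (cls (g.nu S)) (cls (g.nv S)) (cls (g.na S)) (cls (g.nd S)) where
  z1 e := S.z_ne (eq_one_of_sq_mem g.nord ((cls_eq_one _).1 e) S.zz)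
  zz := by rw [cls_mul, cls_eq_one, S.zz]; exact one_mem _
  card := g.card_cent S
  uu := by rw [cls_mul, cls_eq_one, g.base.u2]; exact one_mem _
  vv := by rw [cls_mul, cls_eq_one, (g.vs S).2.1]; exact one_mem _
  uz := by rw [cls_mul, cls_mul]; exact cls_congr _ _ g.base.zu.symm
  vz := by rw [cls_mul, cls_mul]; exact cls_congr _ _ (S.comm_zQ (g.vs S).1)
  uv e := by
    rw [cls_mul, cls_mul, cls_eq, show (u * (c * u * c))⁻¹ * (c * u * c * u) = z from by
      rw [g.vu S, ← mul_assoc, ← S.comm_z (inv_mem (S.hQC (mul_mem g.us.1 (g.vs S).1))) |>.symm]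
      group] at e
    exact S.z_ne (eq_one_of_sq_mem g.nord e S.zz)
  uv2 := by rw [cls_mul, cls_mul]; exact cls_congr _ _ (g.uv2 S)
  a3 := by rw [pow_succ, pow_two, cls_mul, cls_mul, cls_eq_one, g.base.a3]; exact one_mem _
  a1 e := by
    rcases mem_three g.nord ((cls_eq_one _).1 e) with h | h | h
    · exact g.a_ne S h
    · exact g.a_not S (h ▸ g.nz S)
    · exact g.a_not S (h ▸ (Commute.inv_left (g.nz S)).eq)
  az := by rw [cls_inv, cls_mul, cls_mul]; exact cls_congr _ _ g.base.az
  au := by rw [cls_inv, cls_mul, cls_mul, cls_mul]; exact cls_congr _ _ g.base.au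
  d3 := by
    rw [pow_succ, pow_two, cls_mul, cls_mul, cls_eq_one,
      show c * a * c * (c * a * c) * (c * a * c) = c * a * (c * c) * a * (c * c) * a * c by group, g.base.c2,
      show c * a * 1 * a * 1 * a * c = c * (a * a * a) * c by group, g.base.a3, mul_one, g.base.c2]
    exact one_mem _
  d1 e := by
    have h := g.c_mem S ((cls_eq_one _).1 e)
    rw [show c * (c * a * c) * c = (c * c) * a * (c * c) by group, g.base.c2, one_mul, mul_one] at h
    rcases mem_three g.nord h with h | h | h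
    · exact g.a_ne S h
    · exact g.a_not S (h ▸ g.nz S)
    · exact g.a_not S (h ▸ (Commute.inv_left (g.nz S)).eq)
  dz := by rw [cls_inv, cls_mul, cls_mul]; exact cls_congr _ _ (g.dz S)
  dv := by rw [cls_inv, cls_mul, cls_mul, cls_mul]; exact cls_congr _ _ (g.dv S)
  sym := by simp only [cls_mul, cls_eq_one]; exact g.sym_aux S

/-- A conjugate of `a` generates `⟨n⟩`. -/
theorem exists_conj : ∃ h : G, h * a * h⁻¹ = n ∨ h * a * h⁻¹ = n⁻¹ := by
  have : Fact (Nat.Prime 3) := ⟨Nat.prime_three⟩
  have ht : orderOf t = 2 := orderOf_eq_prime (by rw [pow_two, g.base.t2]) fun e => g.tO.2.2 (e ▸ one_mem Q)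
  obtain ⟨k, hk⟩ := isConj_iff.1 (S.one t z ht S.hz)
  have haC : k * a * k⁻¹ ∈ centralizer ({z} : Set G) := mem_centralizer_singleton_iff.2 (by
    rw [← hk]; exact conj_comm g.base.tta)
  have ha : orderOf (k * a * k⁻¹) = 3 := by
    rw [LocalGen.orderOf_conj]
    exact orderOf_eq_prime (by rw [pow_succ, pow_two]; exact g.base.a3) (g.a_ne S)
  obtain ⟨q, -, e⟩ := S.conj_in_C (Or.inl rfl) haC ha (g.n_nC S) g.nord
  refine ⟨q * k, ?_⟩
  have hm : q * k * a * (q * k)⁻¹ ∈ zpowers n := by
    rw [← e, show q * k * a * (q * k)⁻¹ = q * (k * a * k⁻¹) * q⁻¹ by group]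
    exact mem_zpowers _
  refine (mem_three g.nord hm).resolve_left fun h => g.a_ne S ?_
  exact conj_eq_one_iff.1 h

/-- No involution centralises `a` and inverts `n`. -/
theorem no_inverting (F : SixFacts (cls (g.nz S)) (cls (g.na S)) (cls (g.nd S))) {w : G} (hw : w * w = 1)
    (hwa : w * a = a * w) (hwn : w * n * w⁻¹ = n⁻¹) : False := by
  have hwi : w⁻¹ = w := inv_eq_of_mul_eq_one_right hw
  have hx : n * (w * c) = w * c * n := by
    have h1 : w * c * n * (w * c)⁻¹ = n := by
      rw [show w * c * n * (w * c)⁻¹ = w * (c * n * c⁻¹) * w⁻¹ by group, g.c_inv S, g.cnc S, hwi]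
      rw [hwi] at hwn
      rw [← hwn, show w * (w * n * w) * w = (w * w) * n * (w * w) by group, hw, one_mul, mul_one]
    exact (mul_inv_eq_iff_eq_mul.1 h1).symm
  have hd : w * c * (c * a * c) * (w * c)⁻¹ = a := by
    rw [show w * c * (c * a * c) * (w * c)⁻¹ = w * (c * c) * a * w⁻¹ by group, g.base.c2, mul_one, hwa,
      mul_inv_cancel_right]
  refine (F.apart (cls hx)⁻¹).1 ?_
  have e : cls hx * cls (g.nd S) * (cls hx)⁻¹ = cls (g.na S) := by
    rw [cls_inv, cls_mul, cls_mul]; exact cls_congr _ _ hd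
  rw [← e]; group

/-- An element fixing `a` modulo `⟨n⟩` fixes it. -/
theorem fixed_of_mod (F : SixFacts (cls (g.nz S)) (cls (g.na S)) (cls (g.nd S))) {f : G}
    (hf : n * f = f * n) (hmem : f * a * f⁻¹ * a⁻¹ ∈ zpowers n) : f * a = a * f := by
  by_contra hne'
  have hne : f * a * f⁻¹ ≠ a := fun e => hne' (mul_inv_eq_iff_eq_mul.1 e)
  have hA := card_inf_of_moved g.nord (g.na S) hf hmem hne
  have hA27 : ¬ 27 ∣ Nat.card ↥(centralizer ({n} : Set G) ⊓ centralizer ({a} : Set G)) := fun h => by
    rw [hA] at h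
    exact F.no27 (h.trans (Subgroup.card_subgroup_dvd_card _))
  obtain ⟨k, hk⟩ := g.exists_conj S
  set n' := k * n * k⁻¹ with hn'
  have hcent : ∀ x : G, x * n = n * x ↔ x * (k * a * k⁻¹) = k * a * k⁻¹ * x := by
    intro x
    rcases hk with e | e <;> rw [e]
    exact ⟨fun h => (Commute.inv_right h).eq, fun h => by
      have := (Commute.inv_right (show Commute x n⁻¹ from h)).eq
      rwa [inv_inv] at this⟩
  have hn'n : n * n' = n' * n := ((hcent n').2 (conj_comm (g.na S))).symm
  have hn'3 : n' ^ 3 = 1 := by rw [hn', conj_pow, ← g.nord, pow_orderOf_eq_one, mul_one, mul_inv_cancel]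
  have hn'1 : cls hn'n ≠ 1 := fun e => by
    -- otherwise `n` would be a power of `a`
    have ha : n ∈ zpowers a := by
      have hm : k * n * k⁻¹ ∈ zpowers (k * a * k⁻¹) := by
        have h0 := (cls_eq_one _).1 e
        rcases hk with r | r
        · rw [r]; exact h0
        · rw [r, zpowers_inv]; exact h0
      obtain ⟨i, hi⟩ := hm
      refine ⟨i, ?_⟩
      have hi' : (k * a * k⁻¹) ^ i = k * n * k⁻¹ := hi
      rw [conj_zpow] at hi'
      exact mul_left_cancel (mul_right_cancel hi')
    have ha3 : orderOf a = 3 :=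
      orderOf_eq_prime (hp := ⟨Nat.prime_three⟩) (by rw [pow_succ, pow_two]; exact g.base.a3) (g.a_ne S)
    rcases mem_three ha3 ha with h | h | h
    · have h3 := g.nord
      rw [h, orderOf_one] at h3
      omega
    · exact g.a_not S (h ▸ g.nz S)
    · exact g.a_not S (by
        have h1 : Commute n⁻¹ z := Commute.inv_left (g.nz S)
        rw [h, inv_inv] at h1
        exact h1.eq)
  have hswap : Nat.card ↥(centralizer ({n} : Set G) ⊓ centralizer ({n'} : Set G)) =
      Nat.card ↥(centralizer ({n} : Set G) ⊓ centralizer ({a} : Set G)) := by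
    refine (Nat.card_congr ((MulAut.conj k).toEquiv.subtypeEquiv fun x => ?_)).symm
    rw [mem_inf_centralizer, mem_inf_centralizer, mem_centralizer_singleton_iff,
      mem_centralizer_singleton_iff]
    show x * n = n * x ∧ x * a = a * x ↔
      k * x * k⁻¹ * n = n * (k * x * k⁻¹) ∧ k * x * k⁻¹ * n' = n' * (k * x * k⁻¹)
    rw [hcent (k * x * k⁻¹), hn', LocalGen.cent_conj, LocalGen.cent_conj, and_comm]
  -- some element moves `n'` inside its coset
  obtain ⟨h, hh, hhmem, hhne⟩ : ∃ h, n * h = h * n ∧ h * n' * h⁻¹ * n'⁻¹ ∈ zpowers n ∧ h * n' * h⁻¹ ≠ n' := by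
    by_contra hcon
    push Not at hcon
    refine hA27 (hswap ▸ ?_)
    have h9 := F.nine (cls hn'n) (by
      rw [pow_succ, pow_two, cls_mul, cls_mul, cls_eq_one, ← pow_two, ← pow_succ, hn'3]; exact one_mem _) hn'1
    have hle : ((centralizer ({cls hn'n} : Set (Quo n))).comap (QuotientGroup.mk' (kerN n))).map
        (centralizer ({n} : Set G)).subtype ≤ centralizer ({n} : Set G) ⊓ centralizer ({n'} : Set G) := by
      rintro _ ⟨x, hx, rfl⟩
      refine mem_inf.2 ⟨x.2, mem_centralizer_singleton_iff.2 (mul_inv_eq_iff_eq_mul.1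
        (hcon x.1 (mem_centralizer_singleton_iff.1 x.2).symm ?_))⟩
      have h1 : cls (mem_centralizer_singleton_iff.1 x.2).symm * cls hn'n =
          cls hn'n * cls (mem_centralizer_singleton_iff.1 x.2).symm := mem_centralizer_singleton_iff.1 hx
      rw [← mul_inv_eq_iff_eq_mul, ← mul_inv_eq_one, cls_inv, cls_inv, cls_mul, cls_mul, cls_mul,
        cls_eq_one] at h1
      exact h1
    have h2 := Subgroup.card_dvd_of_le hle
    rw [Subgroup.card_map_of_injective Subtype.val_injective, card_preimage g.nord hn'n] at h2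
    exact Dvd.dvd.trans (by obtain ⟨m, hm⟩ := h9; exact ⟨m, by rw [hm]; ring⟩) h2
  set s := h * n' * h⁻¹ * n'⁻¹ with hs
  have hs1 : s ≠ 1 := fun e => hhne (mul_inv_eq_one.1 e)
  have hsn : Commute h s := comm_of_mem hh hhmem
  have hn's : Commute n' s := comm_of_mem hn'n hhmem
  -- an involution inverting `n'` modulo `⟨n⟩`
  obtain ⟨W, hW2, hW1, hWn⟩ := F.invert (cls hn'n) (by
    rw [pow_succ, pow_two, cls_mul, cls_mul, cls_eq_one, ← pow_two, ← pow_succ, hn'3]; exact one_mem _)
  obtain ⟨w₀, hw₀, rfl⟩ := exists_cls W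
  have hsq : w₀ * w₀ ∈ zpowers n := by rwa [cls_mul, cls_eq_one] at hW2
  set w := w₀ * w₀ * w₀ with hwdef
  have hw : n * w = w * n := Commute.mul_right (Commute.mul_right hw₀ hw₀) hw₀
  have hweq : cls hw = cls hw₀ := by
    rw [cls_eq, hwdef, show (w₀ * w₀ * w₀)⁻¹ * w₀ = (w₀ * w₀)⁻¹ by group]
    exact inv_mem hsq
  have hw2 : w * w = 1 := by
    obtain ⟨i, hi⟩ := hsq
    have hi' : n ^ i = w₀ * w₀ := hi
    rw [hwdef, show w₀ * w₀ * w₀ * (w₀ * w₀ * w₀) = (w₀ * w₀) ^ 3 by rw [pow_succ, pow_two]; group, ← hi',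
      ← zpow_natCast, ← zpow_mul, mul_comm, zpow_mul, zpow_natCast, ← g.nord, pow_orderOf_eq_one, one_zpow]
  have hr : w * n' * w⁻¹ * n' ∈ zpowers n := by
    have h1 : cls hw * cls hn'n * (cls hw)⁻¹ * cls hn'n = 1 := by rw [hweq, hWn, inv_mul_cancel]
    rwa [cls_inv, cls_mul, cls_mul, cls_mul, cls_eq_one] at h1
  set r := w * n' * w⁻¹ * n' with hrdef
  have hwr : Commute w r := comm_of_mem hw hr
  have hn'r : Commute n' r := comm_of_mem hn'n hr
  have hr3 : r * r * r = 1 := by
    obtain ⟨i, hi⟩ := hr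
    rw [← show n ^ i = r from hi, ← zpow_add, ← zpow_add, show i + i + i = (3 : ℕ) * i by push_cast; ring,
      zpow_mul, zpow_natCast, ← g.nord, pow_orderOf_eq_one, one_zpow]
  -- a conjugate of `n'` inverted by `w`
  obtain ⟨p, hp, hpn⟩ : ∃ p, n * p = p * n ∧ p * n' * p⁻¹ = n' * r := by
    have e1 : h * n' * h⁻¹ = n' * s := by
      rw [hn's.eq, hs, inv_mul_cancel_right]
    have e2 : h * h * n' * (h * h)⁻¹ = n' * (s * s) := by
      calc h * h * n' * (h * h)⁻¹ = h * (h * n' * h⁻¹) * h⁻¹ := by group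
        _ = h * n' * h⁻¹ * (h * s * h⁻¹) := by
            conv_lhs => rw [e1]
            group
        _ = n' * (s * s) := by rw [e1, hsn.eq, mul_inv_cancel_right, mul_assoc]
    have hsub : r = 1 ∨ r = s ∨ r = s * s := by
      rcases mem_three g.nord hhmem with es | es | es
      · exact absurd es hs1
      · rcases mem_three g.nord hr with er | er | er
        · exact Or.inl er
        · exact Or.inr (Or.inl (er.trans es.symm))
        · refine Or.inr (Or.inr ?_)
          rw [er, es]
          exact inv_eq_of_mul_eq_one_right (by rw [← mul_assoc, g.base.n3])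
      · rcases mem_three g.nord hr with er | er | er
        · exact Or.inl er
        · refine Or.inr (Or.inr ?_)
          rw [er, es, ← mul_inv_rev]
          exact eq_inv_of_mul_eq_one_left (by rw [← mul_assoc, g.base.n3])
        · exact Or.inr (Or.inl (er.trans es.symm))
    rcases hsub with e | e | e
    · exact ⟨1, by simp, by rw [e]; simp⟩
    · exact ⟨h, hh, by rw [e, e1]⟩
    · exact ⟨h * h, Commute.mul_right hh hh, by rw [e, e2]⟩
  have hwinv : w * (n' * r) * w⁻¹ = (n' * r)⁻¹ := by
    calc w * (n' * r) * w⁻¹ = w * n' * w⁻¹ * (w * r * w⁻¹) := by group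
      _ = r * n'⁻¹ * r := by rw [hwr.eq, mul_inv_cancel_right, hrdef]; group
      _ = n'⁻¹ * (r * r) := by rw [← (hn'r.inv_left).eq, mul_assoc]
      _ = (n' * r)⁻¹ := by
        rw [_root_.mul_inv_rev n' r, ← (hn'r.inv_inv).eq, inv_eq_of_mul_eq_one_right (show r * (r * r) = 1 by rw [← mul_assoc, hr3])]
  set w' := p⁻¹ * w * p with hw'
  have hw'n : w' * n' * w'⁻¹ = n'⁻¹ := by
    calc w' * n' * w'⁻¹ = p⁻¹ * (w * (p * n' * p⁻¹) * w⁻¹) * p := by rw [hw']; group
      _ = p⁻¹ * (p * n' * p⁻¹)⁻¹ * p := by rw [hpn, hwinv]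
      _ = n'⁻¹ := by group
  have hw'c : n * w' = w' * n := Commute.mul_right (Commute.mul_right (Commute.inv_right hp) hw) hp
  have hw'2 : w' * w' = 1 := by
    rw [hw', show p⁻¹ * w * p * (p⁻¹ * w * p) = p⁻¹ * (w * w) * p by group, hw2]; group
  refine g.no_inverting S F (w := k⁻¹ * w' * k) ?_ ?_ ?_
  · rw [show k⁻¹ * w' * k * (k⁻¹ * w' * k) = k⁻¹ * (w' * w') * k by group, hw'2]; group
  · have h1 := conj_comm (g := k⁻¹) ((hcent w').1 hw'c.symm)
    rw [inv_inv, show k⁻¹ * (k * a * k⁻¹) * k = a by group] at h1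
    exact h1
  · calc k⁻¹ * w' * k * n * (k⁻¹ * w' * k)⁻¹ = k⁻¹ * (w' * n' * w'⁻¹) * k := by rw [hn']; group
      _ = n⁻¹ := by rw [hw'n, hn']; group

/-- The other orientation. -/
theorem swap : Gens z Q (z * u) t c n a⁻¹ := by
  have hzu : z * (z * u) = u := S.z_mul_z_mul u
  have eu : a⁻¹ * u * a⁻¹⁻¹ = z := by rw [← g.base.az]; group
  have ez : a⁻¹ * z * a⁻¹⁻¹ = z * u := by
    have h : a⁻¹ * (z * u) * a⁻¹⁻¹ = u := by rw [← g.base.au]; group
    calc a⁻¹ * z * a⁻¹⁻¹ = a⁻¹ * (z * u) * a⁻¹⁻¹ * (a⁻¹ * u * a⁻¹⁻¹)⁻¹ := by group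
      _ = u * z⁻¹ := by rw [h, eu]
      _ = z * u := by rw [S.z_inv, S.comm_zQ g.us.1]
  refine
    { base :=
        { g.base with
          u2 := by rw [S.zmul_sq g.us.1, g.base.u2]
          a3 := by rw [show a⁻¹ * a⁻¹ * a⁻¹ = (a * a * a)⁻¹ by group, g.base.a3, inv_one]
          zu := ?_, ut := ?_, un := ?_
          tta := (Commute.inv_left (show Commute a t from g.base.tta)).eq
          an := (Commute.inv_left (show Commute a n from g.base.an)).eq
          az := ez
          au := ?_ }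
      us := S.sing_zmul g.us, tO := g.tO, cO := g.cO, nord := g.nord, moves := fun e => g.moves ?_
      gen := ?_ }
  · rw [hzu, mul_assoc, S.comm_zQ g.us.1, hzu]
  · exact (Commute.mul_left (show Commute z t from g.base.zt) (show Commute u t from g.base.ut)).eq
  · exact (Commute.mul_left (show Commute z n from g.base.zn) (show Commute u n from g.base.un)).eq
  · rw [hzu, show a⁻¹ * (z * u) * a⁻¹⁻¹ = a⁻¹ * z * a⁻¹⁻¹ * (a⁻¹ * u * a⁻¹⁻¹) by group, ez, eu,
      mul_assoc, S.comm_zQ g.us.1, hzu]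
  · have h1 : c * (z * u) * c = z * (c * u * c) := by
      rw [← mul_assoc c z u, ← g.base.zc]; simp only [mul_assoc]
    rw [h1] at e
    exact S.eqv_trans (S.eqv_symm (S.eqv_zmul _)) (S.eqv_trans e (S.eqv_zmul u))
  · refine le_antisymm ((closure_le _).2 ?_) ?_
    · intro x hx
      rw [← g.gen]
      simp only [Set.mem_insert_iff, Set.mem_singleton_iff] at hx
      rcases hx with rfl | rfl | rfl | rfl | rfl
      exacts [subset_closure (by simp), mul_mem (subset_closure (by simp)) (subset_closure (by simp)),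
        subset_closure (by simp), subset_closure (by simp), subset_closure (by simp)]
    · rw [← g.gen, closure_le]
      intro x hx
      simp only [Set.mem_insert_iff, Set.mem_singleton_iff] at hx
      rcases hx with rfl | rfl | rfl | rfl | rfl
      · exact subset_closure (by simp)
      · have hm := mul_mem (subset_closure (show z ∈ ({z, z * x, t, c, n} : Set G) by simp))
          (subset_closure (show z * x ∈ ({z, z * x, t, c, n} : Set G) by simp))
        show x ∈ closure ({z, z * x, t, c, n} : Set G)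
        rwa [hzu] at hm
      · exact subset_closure (by simp)
      · exact subset_closure (by simp)
      · exact subset_closure (by simp)

/-- The inverse of `n`. -/
theorem inv_n : Gens z Q u t c n⁻¹ a := by
  refine
    { base :=
        { g.base with
          n3 := by rw [show n⁻¹ * n⁻¹ * n⁻¹ = (n * n * n)⁻¹ by group, g.base.n3, inv_one]
          zn := (Commute.inv_right (show Commute z n from g.base.zn)).eq
          un := (Commute.inv_right (show Commute u n from g.base.un)).eq
          an := (Commute.inv_right (show Commute a n from g.base.an)).eq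
          nt := ?_
          cn := ?_ }
      us := g.us, tO := g.tO, cO := g.cO, nord := by rw [orderOf_inv, g.nord], moves := g.moves
      gen := ?_ }
  · have h : t * n⁻¹ * (t * n⁻¹) * (t * n⁻¹) = 1 := by
      have e : (n * t * (n * t) * (n * t))⁻¹ = t⁻¹ * n⁻¹ * (t⁻¹ * n⁻¹) * (t⁻¹ * n⁻¹) := by group
      rw [g.base.nt, inv_one, inv_eq_of_mul_eq_one_right g.base.t2] at e
      exact e.symm
    calc n⁻¹ * t * (n⁻¹ * t) * (n⁻¹ * t) = n⁻¹ * (t * n⁻¹ * (t * n⁻¹) * (t * n⁻¹)) * n := by group
      _ = 1 := by rw [h]; group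
  · have h2 : c * n⁻¹ * c = n := by
      rw [← g.cnc S, show c * (c * n * c) * c = (c * c) * n * (c * c) by group, g.base.c2, one_mul, mul_one]
    rw [h2, mul_inv_cancel]
  · refine le_antisymm ((closure_le _).2 ?_) ?_
    · intro x hx
      rw [← g.gen]
      simp only [Set.mem_insert_iff, Set.mem_singleton_iff] at hx
      rcases hx with rfl | rfl | rfl | rfl | rfl
      exacts [subset_closure (by simp), subset_closure (by simp), subset_closure (by simp),
        subset_closure (by simp), inv_mem (subset_closure (by simp))]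
    · rw [← g.gen, closure_le]
      intro x hx
      simp only [Set.mem_insert_iff, Set.mem_singleton_iff] at hx
      rcases hx with rfl | rfl | rfl | rfl | rfl
      · exact subset_closure (by simp)
      · exact subset_closure (by simp)
      · exact subset_closure (by simp)
      · exact subset_closure (by simp)
      · have hm := inv_mem (subset_closure (show x⁻¹ ∈ ({z, u, t, c, x⁻¹} : Set G) by simp))
        show x ∈ closure ({z, u, t, c, x⁻¹} : Set G)
        rwa [inv_inv] at hm

/-- `a` is not in the subgroup generated by the others. -/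
theorem a_not_mem : a ∉ centralizer ({z} : Set G) := fun h =>
  g.a_not S (mem_centralizer_singleton_iff.1 h)

/-- Both relations, once the orientation and `n` are fixed. -/
theorem rels (hx : a * (z * (c * u * c)) * (a * (z * (c * u * c))) = n) : Rels z u t c n a := by
  have two : a * z * n * (c * u * c) * (a * z * n * (c * u * c)) = 1 := by
    set x := a * (z * (c * u * c)) with hxdef
    have hxn : Commute x n := by
      rw [← hx]; exact (Commute.refl x).mul_right (Commute.refl x)
    have e : a * z * n * (c * u * c) = x * n := by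
      rw [hxdef, show a * z * n * (c * u * c) = a * z * (n * (c * u * c)) by group, g.nv S]
      group
    rw [e, show x * n * (x * n) = x * (n * x) * n by group, ← hxn.eq,
      show x * (x * n) * n = (x * x) * (n * n) by group, hx, ← mul_assoc, g.base.n3]
  refine { toBase := g.base, two := two, fix := ?_ }
  have Cq := g.quo S
  have hor : cls (g.na S) * (cls (g.nz S) * cls (g.nv S)) * (cls (g.na S) * (cls (g.nz S) * cls (g.nv S))) = 1 := by
    rw [cls_mul, cls_mul, cls_mul, cls_eq_one, hx]; exact mem_zpowers n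
  rcases Cq.main.2 hor with h34 | F
  · exfalso
    have hw : ∀ k : ℕ, (cls (g.na S) * cls (g.nd S)) ^ k = 1 →
        (a * (c * a * c)) ^ k ∈ zpowers n := by
      intro k hk
      rw [cls_mul] at hk
      have hp : n * (a * (c * a * c)) ^ k = (a * (c * a * c)) ^ k * n :=
        (Commute.pow_right (show Commute n (a * (c * a * c)) from mul_comm_of (g.na S) (g.nd S)) k).eq
      have e : cls hp = cls (mul_comm_of (g.na S) (g.nd S)) ^ k :=
        map_pow (QuotientGroup.mk' (kerN n))
          (⟨a * (c * a * c), mem_centralizer_singleton_iff.2 (mul_comm_of (g.na S) (g.nd S)).symm⟩ :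
            ↥(centralizer ({n} : Set G))) k
      exact (cls_eq_one hp).1 (e.trans hk)
    have go : ∀ k : ℕ, k = 3 ∨ k = 4 → (a * (c * a * c)) ^ k ∈ zpowers n → False := fun k hk hm =>
      g.a_not_mem S (mem_of_seven g.base two k hk _ (mem_three g.nord hm) rfl _ S.zC (S.hQC g.us.1) g.tO.1
        g.cO.1 (g.n_nC S))
    rcases h34 with h | h
    exacts [go 3 (Or.inl rfl) (hw 3 h), go 4 (Or.inr rfl) (hw 4 h)]
  · have hf : n * fixWord z c a = fixWord z c a * n := by
      have e : fixWord z c a = c * a * c * a⁻¹ * z * (c * a * c)⁻¹ := by rw [fixWord, g.d_inv S]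
      rw [e]
      exact Commute.mul_right (Commute.mul_right (Commute.mul_right (g.nd S) (Commute.inv_right (g.na S)))
        (g.nz S)) (Commute.inv_right (g.nd S))
    refine g.fixed_of_mod S F hf ?_
    have hword := F.word
    rw [cls_inv, cls_inv, cls_mul, cls_mul, cls_mul, cls_mul, cls_mul, cls_eq] at hword
    have e : fixWord z c a = c * a * c * a⁻¹ * z * (c * a * c)⁻¹ := by rw [fixWord, g.d_inv S]
    rw [← e] at hword
    have hw2 : (fixWord z c a * a)⁻¹ * (a * fixWord z c a) ∈ zpowers n := hword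
    have hc := comm_of_mem hf (inv_mem hw2)
    have hc2 := comm_of_mem (g.na S) (inv_mem hw2)
    set q := ((fixWord z c a * a)⁻¹ * (a * fixWord z c a))⁻¹ with hq
    have e2 : fixWord z c a * a = a * fixWord z c a * q := by rw [hq]; group
    rw [e2, show a * fixWord z c a * q * (fixWord z c a)⁻¹ * a⁻¹ =
      a * (fixWord z c a * q * (fixWord z c a)⁻¹) * a⁻¹ by group, hc.eq, mul_inv_cancel_right, hc2.eq,
      mul_inv_cancel_right]
    exact inv_mem hw2

end Gens

/-- Generators satisfying the relations of the third Janko group. -/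
theorem exists_rels (S : One z Q) (g : Gens z Q u t c n a) :
    ∃ u' n' a', Gens z Q u' t c n' a' ∧ Rels z u' t c n' a' := by
  have main : ∀ {u' a' : G}, Gens z Q u' t c n a' →
      a' * (z * (c * u' * c)) * (a' * (z * (c * u' * c))) ∈ zpowers n →
      ∃ u' n' a', Gens z Q u' t c n' a' ∧ Rels z u' t c n' a' := by
    intro u' a' g' hm
    rcases mem_three g.nord hm with e | e | e
    · exfalso
      refine g'.a_not_mem S (mem_of_flat g'.base ?_ _ S.zC (S.hQC g'.us.1) g'.tO.1 g'.cO.1 (g'.n_nC S))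
      rw [← e]; group
    · exact ⟨u', n, a', g', g'.rels S e⟩
    · exact ⟨u', n⁻¹, a', g'.inv_n S, (g'.inv_n S).rels S e⟩
  rcases (g.quo S).main.1 with h | h
  · simp only [cls_mul, cls_eq_one] at h
    exact main g h
  · simp only [cls_inv, cls_mul, cls_eq_one] at h
    refine main (g.swap S) ?_
    have e : z * (c * (z * u) * c) = c * u * c := by
      rw [← mul_assoc c z u, ← g.base.zc, show z * (z * c * u * c) = (z * z) * (c * u * c) by group, S.zz,
        one_mul]
    rw [e]
    exact h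

end CfsgLib.JThreeUnique
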