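import Cfsg.Agent.Lib.JThreeUnique.CertCollapse
import Cfsg.Agent.Lib.Presented.Coset
import Cfsg.Agent.Lib.JThreeUnique.MainCert.Main
import Cfsg.Agent.Lib.JThreeUnique.MainCert.Seed

/-!
The relations bound the index of `⟨z, u, t, c, n⟩` in `⟨z, u, t, c, n, a⟩` by 78489.
-/

set_option autoImplicit false
set_option maxRecDepth 100000

namespace CfsgLib.JThreeUnique

open CfsgLib.Presented

variable {G : Type*} [Group G] {z u t c n a : G}

theorem Rels.main_words (R : Rels z u t c n a) :
    ∀ w ∈ MainCert.relWords, evW (letter z u t c n a) w = 1 := by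
  have hfix : fixWord z c a * a * (fixWord z c a)⁻¹ * a⁻¹ = 1 := by rw [R.fix]; group
  have iz : z⁻¹ = z := inv_eq_of_mul_eq_one_right R.z2
  have ic : c⁻¹ = c := inv_eq_of_mul_eq_one_right R.c2
  have hsplit : MainCert.relWords =
      baseWords ++ [[6, 0, 4, 3, 1, 3, 6, 0, 4, 3, 1, 3],
        [3, 6, 3, 7, 0, 3, 7, 3, 6, 3, 6, 3, 0, 6, 3, 7, 3, 7]] := by decide +kernel
  intro w hw
  rw [hsplit, List.mem_append] at hw
  rcases hw with hw | hw
  · exact R.toBase.letter_words w hw
  simp only [List.mem_cons, List.not_mem_nil, or_false] at hw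
  rcases hw with rfl | rfl
  · simpa [letter, mul_assoc] using R.two
  · rw [fixWord] at hfix
    simp only [mul_inv_rev, iz, ic, inv_inv, mul_assoc] at hfix
    simpa [letter, mul_assoc] using hfix

/-- The bound on the index from the coset enumeration. -/
theorem relIndex_le (R : Rels z u t c n a) (H : Subgroup G) (hz : z ∈ H) (hu : u ∈ H) (ht : t ∈ H)
    (hc : c ∈ H) (hn : n ∈ H) :
    H.relIndex (Subgroup.closure {z, u, t, c, n, a}) ≠ 0 ∧
      H.relIndex (Subgroup.closure {z, u, t, c, n, a}) ≤ 78489 := by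
  have hA : MainCert.cert.R.A = MainCert.alphabet := rfl
  have hinvl : ∀ x < 8, MainCert.alphabet.invl x = [0, 1, 2, 3, 5, 4, 7, 6].getD x 0 := by
    decide +kernel
  have hinv : ∀ x, x < 8 →
      letter z u t c n a (MainCert.alphabet.invl x) * letter z u t c n a x = 1 := by
    intro x hx
    rw [hinvl x hx]
    interval_cases x
    · exact R.z2
    · exact R.u2
    · exact R.t2
    · exact R.c2
    · exact inv_mul_cancel n
    · exact mul_inv_cancel n
    · exact inv_mul_cancel a
    · exact mul_inv_cancel a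
  have hgens : ∀ w ∈ MainCert.subWords, evW (letter z u t c n a) w ∈ H := by
    intro w hw
    simp only [MainCert.subWords, List.mem_cons, List.not_mem_nil, or_false] at hw
    rcases hw with rfl | rfl | rfl | rfl | rfl <;> simpa [letter]
  have hseed : evW (letter z u t c n a) MainCert.seedWord ∈ H := by
    have hI : MainCert.enum.Interp (letter z u t c n a) ((1 : G) : G ⧸ H) := by
      refine ⟨rfl, hinv, R.main_words, fun w hw => ?_⟩
      rw [MulAction.Quotient.smul_coe, smul_eq_mul, mul_one, QuotientGroup.eq, mul_one]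
      exact H.inv_mem (hgens w hw)
    have h := MainCert.seed_loop hI
    rw [MulAction.Quotient.smul_coe, smul_eq_mul, mul_one, QuotientGroup.eq, mul_one] at h
    exact (H.inv_mem_iff).1 h
  have hle : Subgroup.closure {z, u, t, c, n, a} ≤
      Subgroup.closure (letter z u t c n a '' Set.Iio MainCert.cert.R.A.eps) := by
    rw [hA]
    refine Subgroup.closure_mono ?_
    rintro x (rfl | rfl | rfl | rfl | rfl | rfl)
    exacts [⟨0, (by decide : (0 : ℕ) < 8), rfl⟩, ⟨1, (by decide : (1 : ℕ) < 8), rfl⟩,
      ⟨2, (by decide : (2 : ℕ) < 8), rfl⟩, ⟨3, (by decide : (3 : ℕ) < 8), rfl⟩,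
      ⟨4, (by decide : (4 : ℕ) < 8), rfl⟩, ⟨6, (by decide : (6 : ℕ) < 8), rfl⟩]
  exact VCert.relIndex_le MainCert.cert_ok rfl hinv R.main_words
    (fun w hw => by
      rcases List.mem_append.1 (show w ∈ MainCert.subWords ++ [MainCert.seedWord] from hw) with h | h
      · exact hgens w h
      · rw [List.mem_singleton.1 h]; exact hseed) hle

end CfsgLib.JThreeUnique
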