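import Cfsg.Agent.Lib.JThreeUnique.Setup
import Cfsg.Agent.Lib.HJType.Global

/-!
One class of involutions: the four-group `{1, z, u, zu}` and an involution outside `Q` centralising it.
-/

set_option autoImplicit false
set_option linter.unusedSectionVars false

namespace CfsgLib.JThreeUnique

open Subgroup CfsgLib.HJType

variable {G : Type*} [Group G] [Finite G] {z : G} {Q : Subgroup G}

theorem a5_three_invol : ∀ t : A5, t * t = 1 → t ≠ 1 → ∃ s r : A5, s * s = 1 ∧ s ≠ 1 ∧ r * r = 1 ∧ r ≠ 1 ∧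
    s * r * (s * r) * (s * r) = 1 ∧ s * r ≠ 1 ∧ s * r * t * (s * r * t) * (s * r * t) = 1 ∧
      s * t * (s * t) * (s * t) = 1 := by
  decide +kernel

namespace One

/-- The hypothesis at a conjugate of `z`. -/
theorem conj (S : One z Q) (g : G) : Nonempty (One (g * z * g⁻¹) (Q.map (MulAut.conj g).toMonoidHom)) := by
  have hmem : ∀ x, x ∈ Q.map (MulAut.conj g).toMonoidHom ↔ g⁻¹ * x * g ∈ Q := fun x =>
    ⟨fun ⟨y, hy, e⟩ => by rw [← e]; simpa [mul_assoc] using hy,
      fun h => ⟨_, h, by simp [mul_assoc]⟩⟩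
  have hC : ∀ x, x ∈ centralizer ({g * z * g⁻¹} : Set G) ↔ g⁻¹ * x * g ∈ centralizer ({z} : Set G) := fun x => by
    simp only [mem_centralizer_singleton_iff]
    constructor
    · intro h
      calc g⁻¹ * x * g * z = g⁻¹ * (x * (g * z * g⁻¹)) * g := by group
        _ = z * (g⁻¹ * x * g) := by rw [h]; group
    · intro h
      calc x * (g * z * g⁻¹) = g * (g⁻¹ * x * g * z) * g⁻¹ := by group
        _ = g * z * g⁻¹ * x := by rw [h]; group
  let ι : ↥(centralizer ({g * z * g⁻¹} : Set G)) →* ↥(centralizer ({z} : Set G)) :=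
    { toFun := fun x => ⟨g⁻¹ * x.1 * g, (hC x.1).1 x.2⟩
      map_one' := Subtype.ext (by simp)
      map_mul' := fun x y => Subtype.ext (by simp [mul_assoc]) }
  refine ⟨{
    hz := by rw [LocalGen.orderOf_conj, S.hz]
    hQC := fun x hx => (hC x).2 (S.hQC ((hmem x).1 hx))
    norm := fun c hc y hy => (hmem _).2 ?_
    card := by rw [Subgroup.card_map_of_injective (MulAut.conj g).injective, S.card]
    hzQ := (hmem _).2 (by simpa [mul_assoc] using S.hzQ)
    sq := fun x hx => ?_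
    com := fun x hx y hy => ?_
    cen := fun d hd h => ?_
    self := fun x hx h => (hmem _).2 (S.self _ ((hC x).1 hx) fun y hy => ?_)
    φ := S.φ.comp ι
    surj := fun v => ?_
    ker := fun c => (S.ker _).trans (hmem _).symm
    one := S.one }⟩
  · have := S.norm _ ((hC c).1 hc) _ ((hmem y).1 hy)
    simpa [mul_assoc] using this
  · rcases S.sq _ ((hmem x).1 hx) with h | h
    · left
      calc x * x = g * (g⁻¹ * x * g * (g⁻¹ * x * g)) * g⁻¹ := by group
        _ = 1 := by rw [h]; group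
    · right
      calc x * x = g * (g⁻¹ * x * g * (g⁻¹ * x * g)) * g⁻¹ := by group
        _ = g * z * g⁻¹ := by rw [h]
  · rcases S.com _ ((hmem x).1 hx) _ ((hmem y).1 hy) with h | h
    · left
      calc y * x = g * (g⁻¹ * y * g * (g⁻¹ * x * g)) * g⁻¹ := by group
        _ = x * y := by rw [h]; group
    · right
      calc y * x = g * (g⁻¹ * y * g * (g⁻¹ * x * g)) * g⁻¹ := by group
        _ = g * z * g⁻¹ * (x * y) := by rw [h]; group
  · rcases S.cen _ ((hmem d).1 hd) (fun y hy => by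
      have := h (g * y * g⁻¹) ((hmem _).2 (by simpa [mul_assoc] using hy))
      calc y * (g⁻¹ * d * g) = g⁻¹ * (g * y * g⁻¹ * d) * g := by group
        _ = g⁻¹ * d * g * y := by rw [this]; group) with e | e
    · left
      calc d = g * (g⁻¹ * d * g) * g⁻¹ := by group
        _ = 1 := by rw [e]; group
    · right
      calc d = g * (g⁻¹ * d * g) * g⁻¹ := by group
        _ = g * z * g⁻¹ := by rw [e]
  · have := h (g * y * g⁻¹) ((hmem _).2 (by simpa [mul_assoc] using hy))
    calc y * (g⁻¹ * x * g) = g⁻¹ * (g * y * g⁻¹ * x) * g := by group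
      _ = g⁻¹ * x * g * y := by rw [this]; group
  · obtain ⟨c, hc, e⟩ := S.exists_lift v
    refine ⟨⟨g * c * g⁻¹, (hC _).2 (by simpa [mul_assoc] using hc)⟩, ?_⟩
    rw [MonoidHom.comp_apply, ← e]
    exact congrArg S.φ (Subtype.ext (by simp [ι, mul_assoc]))

variable (S : One z Q)
include S

/-- An element outside `Q` does not fix a hyperplane of `Q` modulo `z`. -/
theorem not_hyperplane {b : G} (hb : b ∈ centralizer ({z} : Set G)) (hb2 : b * b ∈ Q) (hbQ : b ∉ Q)
    {A : Subgroup G} (hAQ : A ≤ Q) (hA : 16 ≤ Nat.card A) (hfix : ∀ x ∈ A, Eqv z (b * x * b⁻¹) x) : False := by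
  classical
  have := Fintype.ofFinite G
  set β := S.φ ⟨b, hb⟩ with hβ
  have hβ2 : β * β = 1 := by
    rw [hβ, ← map_mul]; exact (S.ker _).2 hb2
  have hβ1 : β ≠ 1 := (S.not_mem_iff hb).1 hbQ
  obtain ⟨s, r, hs, hs1, hr, hr1, h3, h31, hnt, hct⟩ := a5_three_invol β hβ2 hβ1
  have key : ∀ w : A5, w * w = 1 → w ≠ 1 → ∃ A' : Subgroup G, A' ≤ Q ∧ 16 ≤ Nat.card A' ∧
      ∀ x ∈ A', w ∈ (fixer S.toHyp x).map S.φ := by
    intro w hw hw1
    obtain ⟨v, hv⟩ := isConj_iff.1 (show IsConj β w from by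
      obtain ⟨c, hc⟩ := a5_involution_conj β w hβ2 hβ1 hw hw1
      exact isConj_iff.2 ⟨c, mul_inv_eq_iff_eq_mul.2 hc⟩)
    obtain ⟨c, hc, hφ⟩ := S.exists_lift v
    refine ⟨A.map (MulAut.conj c).toMonoidHom, ?_, ?_, ?_⟩
    · rintro _ ⟨x, hx, rfl⟩
      exact S.norm c hc x (hAQ hx)
    · rwa [Subgroup.card_map_of_injective (MulAut.conj c).injective]
    · rintro _ ⟨x, hx, rfl⟩
      refine ⟨⟨c * b * c⁻¹, mul_mem (mul_mem hc hb) (inv_mem hc)⟩, ?_, ?_⟩
      · show Eqv z (c * b * c⁻¹ * (c * x * c⁻¹) * (c * b * c⁻¹)⁻¹) (c * x * c⁻¹)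
        have := S.eqv_conj hc (hfix x hx)
        convert this using 1
        group
      · show S.φ (⟨c, hc⟩ * ⟨b, hb⟩ * ⟨c, hc⟩⁻¹) = w
        rw [map_mul, map_mul, map_inv, hφ]
        exact hv
  obtain ⟨A₁, h1Q, h1, h1f⟩ := key s hs hs1
  obtain ⟨A₂, h2Q, h2, h2f⟩ := key r hr hr1
  obtain ⟨A₃, h3Q, h3c, h3f⟩ := key β hβ2 hβ1
  have hrel : ∀ K : Subgroup G, K ≤ Q → 16 ≤ Nat.card K → K.relIndex Q ≤ 2 := by
    intro K hK hc
    have h := Subgroup.relIndex_mul_relIndex ⊥ K Q bot_le hK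
    rw [relIndex_bot_left, relIndex_bot_left, S.card] at h
    nlinarith
  set I := A₁ ⊓ A₂ ⊓ A₃ with hI
  have hI8 : I.relIndex Q ≤ 8 := by
    refine (Subgroup.relIndex_inf_le).trans ?_
    exact Nat.mul_le_mul ((Subgroup.relIndex_inf_le).trans (Nat.mul_le_mul (hrel _ h1Q h1) (hrel _ h2Q h2)))
      (hrel _ h3Q h3c)
  have hIQ : I ≤ Q := (inf_le_left.trans inf_le_left).trans h1Q
  obtain ⟨x, hxI, hx1, hxz⟩ : ∃ x ∈ I, x ≠ 1 ∧ x ≠ z := by
    by_contra hno
    push Not at hno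
    have hle : Nat.card I ≤ ({1, z} : Finset G).card := by
      rw [Nat.card_eq_fintype_card, Fintype.card_subtype]
      refine Finset.card_le_card fun y hy => ?_
      simp only [Finset.mem_filter, Finset.mem_univ, true_and] at hy
      simp only [Finset.mem_insert, Finset.mem_singleton]
      exact or_iff_not_imp_left.2 (hno y hy)
    have h := Subgroup.relIndex_mul_relIndex ⊥ I Q bot_le hIQ
    rw [relIndex_bot_left, relIndex_bot_left, S.card] at h
    have := hle.trans Finset.card_le_two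
    nlinarith
  obtain ⟨⟨hxA, hxB⟩, hxC⟩ : (x ∈ A₁ ∧ x ∈ A₂) ∧ x ∈ A₃ := ⟨mem_inf.1 (mem_inf.1 hxI).1, (mem_inf.1 hxI).2⟩
  have htop : (fixer S.toHyp x).map S.φ = ⊤ :=
    a5_mem_top (mul_mem (h1f x hxA) (h2f x hxB)) (h3f x hxC) (h1f x hxA) h3 h31 hβ2 hβ1 hnt hs
      (by rw [← mul_assoc s s r, hs, one_mul, mul_assoc r s, ← mul_assoc s s r, hs, one_mul, hr]) hs1 hct
  obtain ⟨g, hgC, hg, hgQ⟩ := S.exists_five
  obtain ⟨g', hg', e⟩ := mem_map.1 (htop ▸ Subgroup.mem_top (S.φ ⟨g, hgC⟩))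
  obtain ⟨q, hq, eg⟩ := (S.φ_eq_iff hgC g'.2).1 e.symm
  rcases S.five_fix hgC hg hgQ (hIQ hxI) (by
    rw [eg, show (g' : G) * q * x * ((g' : G) * q)⁻¹ = (g' : G) * (q * x * q⁻¹) * (g' : G)⁻¹ by group]
    exact S.eqv_trans (S.eqv_conj g'.2 (S.eqv_conjQ hq (hIQ hxI))) ((mem_fixer S.toHyp).1 hg')) with h | h
  exacts [hx1 h, hxz h]

/-- The elements of `Q` centralising a singular element. -/
theorem card_inf_cent {p : G} (hp : Sing z Q p) : 16 ≤ Nat.card ↥(Q ⊓ centralizer ({p} : Set G)) := by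
  classical
  obtain ⟨y, hy, e⟩ := S.exists_swap hp.1 hp.2.2.1 hp.2.2.2
  set X := Q ⊓ centralizer ({p} : Set G)
  have hX : ∀ x, x ∈ X ↔ x ∈ Q ∧ x * p = p * x := fun x => by
    rw [mem_inf, mem_centralizer_singleton_iff]
  have hyp : y * p = z * p * y := mul_inv_eq_iff_eq_mul.1 e
  have hmov : ∀ x, x ∈ Q → x * p ≠ p * x → y * x ∈ X := by
    intro x hx hne
    refine (hX _).2 ⟨mul_mem hy hx, ?_⟩
    rcases S.com p hp.1 x hx with h | h
    · exact absurd h hne
    · calc y * x * p = y * (x * p) := mul_assoc _ _ _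
        _ = y * (z * (p * x)) := by rw [h]
        _ = z * (y * p) * x := by rw [← mul_assoc y z, S.comm_zQ hy]; group
        _ = p * (y * x) := by rw [hyp, ← mul_assoc z (z * p) y, S.z_mul_z_mul]; group
  have h := Nat.card_le_card_of_injective
    (fun x : ↥Q => if hx : (x : G) * p = p * x then ((⟨x, (hX _).2 ⟨x.2, hx⟩⟩ : ↥X), true)
      else (⟨y * x, hmov x x.2 hx⟩, false)) (by
      intro a b hab
      by_cases ha : (a : G) * p = p * a <;> by_cases hb : (b : G) * p = p * b <;>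
        simp [dif_pos, dif_neg, ha, hb] at hab
      · exact hab
      · exact hab)
  rw [S.card, Nat.card_prod, Nat.card_eq_fintype_card (α := Bool), Fintype.card_bool] at h
  omega

/-- An element of `Q` centralising a singular element with square `z`. -/
theorem exists_sq {p : G} (hp : Sing z Q p) : ∃ x ∈ Q, x * p = p * x ∧ x * x = z := by
  classical
  have := Fintype.ofFinite G
  by_contra hno
  push Not at hno
  have h := S.card_inf_cent hp
  have hle : Nat.card ↥(Q ⊓ centralizer ({p} : Set G)) ≤ ({1, z, p, z * p} : Finset G).card := by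
    rw [Nat.card_eq_fintype_card, Fintype.card_subtype]
    refine Finset.card_le_card fun x hx => ?_
    simp only [Finset.mem_filter, Finset.mem_univ, true_and] at hx
    obtain ⟨hxQ, hxp⟩ := mem_inf.1 hx
    rw [mem_centralizer_singleton_iff] at hxp
    have hx2 : x * x = 1 := (S.sq x hxQ).resolve_right (hno x hxQ hxp)
    simp only [Finset.mem_insert, Finset.mem_singleton]
    by_cases h1 : x = 1
    · exact Or.inl h1
    by_cases hxz : x = z
    · exact Or.inr (Or.inl hxz)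
    exact Or.inr (Or.inr (S.sing_comm hp ⟨hxQ, hx2, h1, hxz⟩ hxp.symm))
  have h4 : ({1, z, p, z * p} : Finset G).card ≤ 4 := Finset.card_le_four
  omega

/-- The involutions of `Q` centralising `u`. -/
theorem four_cases {u x : G} (hu : Sing z Q u) (hx : x ∈ Q) (hx2 : x * x = 1) (hxu : x * u = u * x) :
    x = 1 ∨ x = z ∨ x = u ∨ x = z * u := by
  by_cases h1 : x = 1
  · exact Or.inl h1
  by_cases hz : x = z
  · exact Or.inr (Or.inl hz)
  exact Or.inr (Or.inr (S.sing_comm hu ⟨hx, hx2, h1, hz⟩ hxu.symm))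

/-- The conjugated hypothesis at a singular element, in which `z` is singular. -/
theorem exists_other {u : G} (hu : Sing z Q u) : ∃ Qu, ∃ T : One u Qu, z ∈ Qu := by
  obtain ⟨g, hg⟩ := isConj_iff.1 (S.one z u S.hz (orderOf_eq_two.2 ⟨hu.2.1, hu.2.2.1⟩))
  obtain ⟨T⟩ := S.conj g
  subst hg
  refine ⟨_, T, ?_⟩
  by_contra hzQ
  have hzu : g * z * g⁻¹ * z = z * (g * z * g⁻¹) := S.comm_zQ hu.1
  have ho : Outer (g * z * g⁻¹) (Q.map (MulAut.conj g).toMonoidHom) z :=
    ⟨mem_centralizer_singleton_iff.2 hzu.symm, S.zz, hzQ⟩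
  obtain ⟨x, hxQ, hxu, hx2⟩ := S.exists_sq hu
  refine S.z_ne (hx2 ▸ T.eGroup_sq ho (T.mem_eGroup.2 ⟨mem_centralizer_singleton_iff.2 hxu, S.comm_zQ hxQ⟩))

/-- An involution outside `Q` centralising a singular element. -/
theorem exists_outer_comm {u : G} (hu : Sing z Q u) : ∃ t, Outer z Q t ∧ t * u = u * t := by
  classical
  obtain ⟨Qu, T, hzQu⟩ := S.exists_other hu
  have huz : u * z = z * u := S.comm_zQ hu.1
  have hzs : Sing u Qu z := ⟨hzQu, S.zz, S.z_ne, fun e => hu.2.2.2 e.symm⟩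
  set A := Q ⊓ centralizer ({u} : Set G) with hA
  set B := Qu ⊓ centralizer ({z} : Set G) with hB
  have mA : ∀ x, x ∈ A ↔ x ∈ Q ∧ x * u = u * x := fun x => by rw [hA, mem_inf, mem_centralizer_singleton_iff]
  have mB : ∀ x, x ∈ B ↔ x ∈ Qu ∧ x * z = z * x := fun x => by rw [hB, mem_inf, mem_centralizer_singleton_iff]
  have huu : u * u = 1 := hu.2.1
  -- the commutators lie in the four-group
  have hw : ∀ a ∈ A, ∀ b ∈ B, a⁻¹ * (b * a * b⁻¹) = 1 ∨ a⁻¹ * (b * a * b⁻¹) = z ∨
      a⁻¹ * (b * a * b⁻¹) = u ∨ a⁻¹ * (b * a * b⁻¹) = z * u := by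
    intro a ha b hb
    obtain ⟨haQ, hau⟩ := (mA a).1 ha
    obtain ⟨hbQ, hbz⟩ := (mB b).1 hb
    set w := a⁻¹ * (b * a * b⁻¹) with hw
    have h1 : w ∈ Q := mul_mem (inv_mem haQ) (S.norm b (mem_centralizer_singleton_iff.2 hbz) a haQ)
    have h2 : w ∈ Qu := by
      rw [hw, show a⁻¹ * (b * a * b⁻¹) = (a⁻¹ * b * a⁻¹⁻¹) * b⁻¹ by group]
      exact mul_mem (T.norm _ (inv_mem (mem_centralizer_singleton_iff.2 hau)) b hbQ) (inv_mem hbQ)
    have hw2 : w * w = 1 := by
      rcases S.sq w h1 with e | e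
      · exact e
      · rcases T.sq w h2 with e' | e'
        · exact absurd (e.symm.trans e') S.z_ne
        · exact absurd (e.symm.trans e') fun h => hu.2.2.2 h.symm
    exact S.four_cases hu h1 hw2 (mem_centralizer_singleton_iff.1 (T.hQC h2))
  have hzu1 : z * u ≠ 1 := fun e => hu.2.2.2 (by
    calc u = z * (z * u) := by rw [S.z_mul_z_mul]
      _ = z := by rw [e, mul_one])
  -- some commutator is `z u`
  have heqA : ∀ a ∈ A, ∀ b : G, a⁻¹ * (b * a * b⁻¹) = z → Eqv z (b * a * b⁻¹) a := fun a ha b e => by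
    refine Or.inr ?_
    rw [← S.comm_zQ ((mA a).1 ha).1, ← e]; group
  have hout : ∀ b ∈ B, b * b = u → b ∉ Q := fun b _ e hbQ =>
    (S.sq b hbQ).elim (fun h => hu.2.2.1 (e.symm.trans h)) fun h => hu.2.2.2 (e.symm.trans h)
  have hA2 : ∀ a ∈ A, a * a = z → a ∉ Qu := fun a _ e haQ =>
    (T.sq a haQ).elim (fun h => S.z_ne (e.symm.trans h)) fun h => hu.2.2.2 (h.symm.trans e)
  obtain ⟨a, ha, b, hb, hab⟩ : ∃ a ∈ A, ∃ b ∈ B, a⁻¹ * (b * a * b⁻¹) = z * u := by
    by_contra hno
    push Not at hno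
    -- modulo `u` every element of `B` centralises `A`
    have hall : ∀ b ∈ B, b * b = u → ∀ a ∈ A, a⁻¹ * (b * a * b⁻¹) = 1 ∨ a⁻¹ * (b * a * b⁻¹) = u := by
      intro b hb hb2 a ha
      rcases hw a ha b hb with h | h | h | h
      · exact Or.inl h
      · exfalso
        refine S.not_hyperplane (mem_centralizer_singleton_iff.2 ((mB b).1 hb).2) (hb2 ▸ hu.1) (hout b hb hb2)
          (inf_le_left : A ≤ Q) (S.card_inf_cent hu) fun x hx => ?_
        rcases hw x hx b hb with k | k | k | k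
        · exact Or.inl (inv_mul_eq_one.1 k).symm
        · exact heqA x hx b k
        · exfalso
          refine hno (a * x) (mul_mem ha hx) b hb ?_
          rw [show (a * x)⁻¹ * (b * (a * x) * b⁻¹) =
            x⁻¹ * (a⁻¹ * (b * a * b⁻¹)) * x * (x⁻¹ * (b * x * b⁻¹)) by group, h, k, mul_assoc x⁻¹ z x,
            ← S.comm_zQ ((mA x).1 hx).1, inv_mul_cancel_left]
        · exact absurd k (hno x hx b hb)
      · exact Or.inr h
      · exact absurd h (hno a ha b hb)
    obtain ⟨a, haQ, hau, ha2⟩ := S.exists_sq hu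
    have ha : a ∈ A := (mA a).2 ⟨haQ, hau⟩
    refine T.not_hyperplane (mem_centralizer_singleton_iff.2 hau) (ha2 ▸ hzQu) (hA2 a ha ha2)
      (inf_le_left : B ≤ Qu) (T.card_inf_cent hzs) fun b hb => ?_
    rcases T.sq b ((mB b).1 hb).1 with hb2 | hb2
    · refine Or.inl ?_
      rcases T.four_cases hzs ((mB b).1 hb).1 hb2 ((mB b).1 hb).2 with e | e | e | e <;> rw [e]
      · group
      · rw [hau]; group
      · rw [S.comm_zQ haQ]; group
      · rw [← mul_assoc, hau, mul_assoc u a z, S.comm_zQ haQ]; group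
    · rcases hall b hb hb2 a ha with k | k
      · left
        have e : b * a * b⁻¹ = a := (inv_mul_eq_one.1 k).symm
        calc a * b * a⁻¹ = a * b * (b * a * b⁻¹)⁻¹ := by rw [e]
          _ = a * b * b * a⁻¹ * b⁻¹ := by group
          _ = u * b⁻¹ := by rw [mul_assoc a b b, hb2, hau]; group
          _ = b := by rw [mul_inv_eq_iff_eq_mul, hb2]
      · right
        have e : b * a * b⁻¹ = a * u := by rw [← k]; group
        calc a * b * a⁻¹ = a * b * u * (a * u)⁻¹ := by group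
          _ = a * b * u * (b * a * b⁻¹)⁻¹ := by rw [e]
          _ = a * (b * u * b) * a⁻¹ * b⁻¹ := by group
          _ = a * (u * (b * b)) * a⁻¹ * b⁻¹ := by rw [T.comm_zQ ((mB b).1 hb).1]; group
          _ = b⁻¹ := by rw [hb2, huu]; group
          _ = u * b := inv_eq_of_mul_eq_one_right (by
            rw [← mul_assoc, T.comm_zQ ((mB b).1 hb).1, mul_assoc, hb2, huu])
  obtain ⟨haQ, hau⟩ := (mA a).1 ha
  obtain ⟨hbQ, hbz⟩ := (mB b).1 hb
  have hba : b * a = a * (z * u) * b := by rw [← hab]; group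
  have ha2 : a * a = z := by
    refine (S.sq a haQ).resolve_left fun h => hzu1 ?_
    rw [← hab]
    rcases S.four_cases hu haQ h hau with e | e | e | e <;> rw [e]
    · group
    · rw [hbz]; group
    · rw [T.comm_zQ hbQ]; group
    · rw [← mul_assoc b z u, hbz, mul_assoc z b u, T.comm_zQ hbQ]; group
  have hb2 : b * b = u := by
    refine (T.sq b hbQ).resolve_left fun h => hzu1 ?_
    rw [← hab]
    have hc : Commute a b := by
      rcases T.four_cases hzs hbQ h hbz with e | e | e | e <;> rw [e]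
      · exact Commute.one_right a
      · exact hau
      · exact S.comm_zQ haQ
      · exact (Commute.mul_right (hau : Commute a u) (S.comm_zQ haQ : Commute a z))
    rw [show b * a = a * b from hc.eq.symm]; group
  refine ⟨a * b, ⟨mul_mem (S.hQC haQ) (mem_centralizer_singleton_iff.2 hbz), ?_, fun h => hout b hb hb2 ?_⟩, ?_⟩
  · calc a * b * (a * b) = a * (b * a) * b := by group
      _ = (a * a) * (z * u) * (b * b) := by rw [hba]; group
      _ = 1 := by rw [ha2, hb2, S.z_mul_z_mul, huu]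
  · simpa using mul_mem (inv_mem haQ) h
  · rw [mul_assoc, T.comm_zQ hbQ, ← mul_assoc, hau, mul_assoc]

end One

end CfsgLib.JThreeUnique
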