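import Cfsg.Agent.Lib.JThreeUnique.Rels
import Mathlib.GroupTheory.Index
import Mathlib.GroupTheory.GroupAction.ConjAct
import Mathlib.GroupTheory.Subgroup.Simple
import Mathlib.GroupTheory.Subgroup.Centralizer
import Mathlib.Tactic.Group
import Mathlib.Tactic.FinCases
import Mathlib.Data.Fin.VecNotation
import Mathlib.Algebra.Group.Commute.Basic
import Mathlib.SetTheory.Cardinal.Finite

/-!
# Uniqueness of the group of `J₃` type: the global step

Two groups of the same order with generators satisfying the relations, each with the centraliser of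
`z` of order 1920 generated by five of them, are isomorphic when one of them is simple and generated
by the six generators: the coset bound makes the pair group in the product a graph.
-/

set_option autoImplicit false
set_option linter.unusedSectionVars false

namespace CfsgLib.JThreeUnique

open Subgroup

variable {G : Type*} [Group G] {J : Type*} [Group J]

/-- The relations hold in pairs. -/
theorem Rels.prod {z u t c n a : G} {z' u' t' c' n' a' : J} (R : Rels z u t c n a)
    (R' : Rels z' u' t' c' n' a') :
    Rels (z, z') (u, u') (t, t') (c, c') (n, n') (a, a') := by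
  refine ⟨⟨?_, ?_, ?_, ?_, ?_, ?_, ?_, ?_, ?_, ?_, ?_, ?_, ?_, ?_, ?_, ?_, ?_, ?_, ?_⟩, ?_, ?_⟩ <;>
    refine Prod.ext ?_ ?_
  exacts [R.z2, R'.z2, R.u2, R'.u2, R.t2, R'.t2, R.c2, R'.c2, R.n3, R'.n3, R.a3, R'.a3, R.zu,
    R'.zu, R.zt, R'.zt, R.zn, R'.zn, R.zc, R'.zc, R.ut, R'.ut, R.un, R'.un, R.nt, R'.nt, R.tta,
    R'.tta, R.an, R'.an, R.az, R'.az, R.au, R'.au, R.cn, R'.cn, R.ct, R'.ct, R.two, R'.two, R.fix,
    R'.fix]

variable {z u t c n a : G}

/-- The rotation does not centralise `z`. -/
theorem Base.az_ne (B : Base z u t c n a) (hz : z ≠ 1) : a * z ≠ z * a := by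
  intro h
  have huz : u = z := by rw [← B.az, mul_inv_eq_iff_eq_mul]; exact h
  have h1 : z * u = z := by rw [← B.au, huz, B.az, huz]
  refine hz ?_
  rw [← huz]
  exact mul_left_cancel (a := z) (by rw [h1, mul_one])

/-- The conjugate of `u` under `c` is not in the four-group. -/
theorem Rels.cuc_ne (R : Rels z u t c n a) (hz : z ≠ 1) : c * u * c ≠ u ∧ c * u * c ≠ z * u := by
  have B := R.toBase
  have hzz := B.z2
  have huu := B.u2
  have key : ∀ w : G, w = u ∨ w = z * u → a * z * n * w * (a * z * n * w) ≠ 1 := by
    intro w hw h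
    -- the four-group is centralised by `n` and rotated by `a`
    have hzu' : ∀ x : G, x = u ∨ x = z * u → z * x = x * z := by
      rintro x (hx | hx) <;> rw [hx]
      · exact B.zu
      · rw [mul_assoc z u z, ← B.zu]
    have hnw : n * w = w * n := by
      rcases hw with e | e <;> rw [e]
      · exact B.un.symm
      · rw [← mul_assoc, ← B.zn, mul_assoc, ← B.un, mul_assoc]
    have hay : ∀ y : G, (y = z ∨ y = u ∨ y = z * u) →
        ∃ y' : G, (y' = z ∨ y' = u ∨ y' = z * u) ∧ a * y = y' * a := by
      have hmove : ∀ y y' : G, a * y * a⁻¹ = y' → a * y = y' * a := fun y y' e => by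
        rw [← e]; group
      rintro y (e | e | e) <;> rw [e]
      · exact ⟨u, Or.inr (Or.inl rfl), hmove _ _ B.az⟩
      · exact ⟨z * u, Or.inr (Or.inr rfl), hmove _ _ B.au⟩
      · refine ⟨z, Or.inl rfl, hmove _ _ ?_⟩
        rw [show a * (z * u) * a⁻¹ = a * z * a⁻¹ * (a * u * a⁻¹) by group, B.az, B.au, ← mul_assoc,
          ← B.zu, mul_assoc, huu, mul_one]
    have hy : z * w = u ∨ z * w = z * u := by
      rcases hw with e | e <;> rw [e]
      · exact Or.inr rfl
      · left; rw [← mul_assoc, hzz, one_mul]
    obtain ⟨y', hy'm, hy'⟩ := hay (z * w) (by rcases hy with e | e <;> simp [e])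
    have hny : n * y' = y' * n := by
      rcases hy'm with e | e | e <;> rw [e]
      · exact B.zn.symm
      · exact B.un.symm
      · rw [← mul_assoc, ← B.zn, mul_assoc, ← B.un, mul_assoc]
    have h2 : a * z * n * w = y' * (a * n) := by
      rw [mul_assoc (a * z) n w, hnw, ← mul_assoc, mul_assoc a z w, hy', mul_assoc]
    obtain ⟨y'', hy''m, hy''⟩ := hay y' hy'm
    have h3 : a * n * y' = y'' * (a * n) := by rw [mul_assoc, hny, ← mul_assoc, hy'', mul_assoc]
    rw [h2, show y' * (a * n) * (y' * (a * n)) = y' * (a * n * y') * (a * n) by group, h3,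
      show y' * (y'' * (a * n)) * (a * n) = y' * y'' * ((a * n) * (a * n)) by group] at h
    -- so the square of `a * n` centralises `z`, hence so does `a * n`
    have hcz : ∀ y : G, (y = z ∨ y = u ∨ y = z * u) → z * y = y * z := by
      rintro y (e | hy)
      · rw [e]
      · exact hzu' y hy
    have hsq : Commute ((a * n) * (a * n)) z := by
      rw [eq_inv_of_mul_eq_one_right h]
      refine Commute.inv_left (Commute.mul_left ?_ ?_)
      · exact (hcz y' hy'm).symm
      · exact (hcz y'' hy''m).symm
    have h3' : a * n * (a * n) * (a * n) = 1 := by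
      have hc : Commute a n := B.an
      calc a * n * (a * n) * (a * n) = (a * n) ^ 3 := by rw [pow_succ, pow_two]
        _ = a * a * a * (n * n * n) := by rw [hc.mul_pow, pow_succ, pow_two, pow_succ, pow_two]
        _ = 1 := by rw [B.a3, B.n3, one_mul]
    have hcom : Commute (a * n) z := by
      have : a * n = (a * n * (a * n))⁻¹ := eq_inv_of_mul_eq_one_right h3'
      rw [this]
      exact hsq.inv_left
    refine B.az_ne hz ?_
    have h4 := hcom.mul_left (Commute.inv_left (B.zn.symm : Commute n z))
    rw [mul_inv_cancel_right] at h4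
    exact h4
  exact ⟨fun e => key _ (Or.inl e) R.two, fun e => key _ (Or.inr e) R.two⟩

/-- Four conjugates of `z` in a subgroup containing the generators. -/
theorem Rels.card_ge [Finite G] (R : Rels z u t c n a) (hz : z ≠ 1) {K : Subgroup G}
    (hc : c ∈ K) (ha : a ∈ K) (hC : centralizer ({z} : Set G) ≤ K) :
    4 * Nat.card (centralizer ({z} : Set G)) ≤ Nat.card K := by
  classical
  have B := R.toBase
  have hu1 : u ≠ 1 := fun e => hz (conj_eq_one_iff.1 (B.az.trans e))
  have huz : u ≠ z := fun e => B.az_ne hz (mul_inv_eq_iff_eq_mul.1 (B.az.trans e))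
  have hzuz : z * u ≠ z := fun e => hu1 (mul_left_cancel (a := z) (by rw [e, mul_one]))
  have hzuu : z * u ≠ u := fun e => hz (mul_right_cancel (b := u) (by rw [e, one_mul]))
  obtain ⟨hv1, hv2⟩ := R.cuc_ne hz
  have hcc : ∀ x : G, c * (c * x * c) * c = x := fun x => by
    rw [show c * (c * x * c) * c = c * c * x * (c * c) by group, B.c2, one_mul, mul_one]
  have hv0 : c * u * c ≠ z := fun e => huz (by
    rw [← hcc u, e, ← B.zc, mul_assoc, B.c2, mul_one])
  -- four elements of K sending z to different places
  let g : Fin 4 → G := ![1, a, a * a, c * a]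
  have hg : ∀ i, g i ∈ K := by
    intro i
    fin_cases i <;> simp only [g] <;>
      first | exact one_mem K | exact ha | exact mul_mem ha ha | exact mul_mem hc ha
  have hval : ∀ i, g i * z * (g i)⁻¹ = ![z, u, z * u, c * u * c] i := by
    intro i
    have hcinv : c⁻¹ = c := inv_eq_of_mul_eq_one_right B.c2
    fin_cases i
    · show (1 : G) * z * 1⁻¹ = z
      group
    · exact B.az
    · show a * a * z * (a * a)⁻¹ = z * u
      rw [← B.au, ← B.az]; group
    · show c * a * z * (c * a)⁻¹ = c * u * c
      rw [← B.az, mul_inv_rev, hcinv]; group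
  have hinj : Function.Injective ![z, u, z * u, c * u * c] := by
    intro i j hij
    fin_cases i <;> fin_cases j <;> simp at hij <;> first
      | rfl
      | exact absurd hij huz | exact absurd hij.symm huz
      | exact absurd hij hzuz | exact absurd hij.symm hzuz
      | exact absurd hij hzuu | exact absurd hij.symm hzuu
      | exact absurd hij hv0 | exact absurd hij.symm hv0
      | exact absurd hij hv1 | exact absurd hij.symm hv1
      | exact absurd hij hv2 | exact absurd hij.symm hv2
      | exact absurd hij hu1 | exact absurd hij hz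
  let f : Fin 4 × centralizer ({z} : Set G) → K := fun p =>
    ⟨g p.1 * p.2, mul_mem (hg p.1) (hC p.2.2)⟩
  have hf : Function.Injective f := by
    rintro ⟨i, x, hx⟩ ⟨j, y, hy⟩ h
    have h' : g i * x = g j * y := congrArg Subtype.val h
    have hfix : ∀ (k : Fin 4) (w : G), w ∈ centralizer ({z} : Set G) →
        g k * w * z * (g k * w)⁻¹ = g k * z * (g k)⁻¹ := fun k w hw => by
      calc g k * w * z * (g k * w)⁻¹ = g k * (w * z) * w⁻¹ * (g k)⁻¹ := by group
        _ = _ := by rw [mem_centralizer_singleton_iff.1 hw]; group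
    obtain rfl : i = j := hinj (by rw [← hval, ← hval, ← hfix i x hx, h', hfix j y hy])
    obtain rfl := mul_left_cancel h'
    rfl
  have := Nat.card_le_card_of_injective f hf
  rwa [Nat.card_prod, Nat.card_fin] at this

/-- Two such groups of order 50232960 are isomorphic, given the bound on the cosets. -/
theorem nonempty_mulEquiv_of_rels [Finite G] [Finite J] [IsSimpleGroup J] {z' u' t' c' n' a' : J}
    (hz : z ≠ 1) (R : Rels z u t c n a)
    (hgen : closure ({z, u, t, c, n} : Set G) = centralizer ({z} : Set G))
    (hC : Nat.card (centralizer ({z} : Set G)) = 1920) (hG : Nat.card G = 50232960)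
    (R' : Rels z' u' t' c' n' a')
    (hgen' : closure ({z', u', t', c', n'} : Set J) = centralizer ({z'} : Set J))
    (hC' : Nat.card (centralizer ({z'} : Set J)) = 1920) (hJ : Nat.card J = 50232960)
    (htop : closure ({z', u', t', c', n', a'} : Set J) = ⊤)
    (hbound : ∀ {z u t c n a : G × J}, Rels z u t c n a → ∀ H : Subgroup (G × J), z ∈ H → u ∈ H →
      t ∈ H → c ∈ H → n ∈ H → H.relIndex (closure {z, u, t, c, n, a}) ≠ 0 ∧
        H.relIndex (closure {z, u, t, c, n, a}) ≤ 78489) :
    Nonempty (G ≃* J) := by
  classical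
  set H := closure ({(z, z'), (u, u'), (t, t'), (c, c'), (n, n')} : Set (G × J))
  set L := closure ({(z, z'), (u, u'), (t, t'), (c, c'), (n, n'), (a, a')} : Set (G × J))
  have hHL : H ≤ L := closure_mono fun x hx => by
    simp only [Set.mem_insert_iff, Set.mem_singleton_iff] at hx ⊢; tauto
  obtain ⟨-, hb⟩ := hbound (R.prod R') H (subset_closure (by simp)) (subset_closure (by simp))
    (subset_closure (by simp)) (subset_closure (by simp)) (subset_closure (by simp))
  have hHle : H ≤ (centralizer ({z} : Set G)).prod (centralizer ({z'} : Set J)) := by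
    refine (closure_le _).2 fun x hx => ?_
    rw [← hgen, ← hgen']
    simp only [Set.mem_insert_iff, Set.mem_singleton_iff] at hx
    rcases hx with rfl | rfl | rfl | rfl | rfl <;>
      exact ⟨subset_closure (by simp), subset_closure (by simp)⟩
  have hH : Nat.card H ≤ 1920 * 1920 := by
    refine (Nat.le_of_dvd Nat.card_pos (Subgroup.card_dvd_of_le hHle)).trans (le_of_eq ?_)
    rw [Nat.card_congr (Subgroup.prodEquiv _ _).toEquiv, Nat.card_prod, hC, hC']
  have hL : Nat.card L ≤ 78489 * (1920 * 1920) := by
    rw [← Subgroup.relIndex_bot_left L, ← Subgroup.relIndex_mul_relIndex ⊥ H L bot_le hHL,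
      Subgroup.relIndex_bot_left]
    rw [mul_comm]
    exact Nat.mul_le_mul hb hH
  have hsnd : Function.Surjective ((MonoidHom.snd G J).comp L.subtype) := by
    rw [← MonoidHom.range_eq_top, eq_top_iff, ← htop]
    refine (closure_le _).2 fun x hx => ?_
    simp only [Set.mem_insert_iff, Set.mem_singleton_iff] at hx
    rcases hx with rfl | rfl | rfl | rfl | rfl | rfl
    · exact ⟨⟨(z, x), subset_closure (by simp)⟩, rfl⟩
    · exact ⟨⟨(u, x), subset_closure (by simp)⟩, rfl⟩
    · exact ⟨⟨(t, x), subset_closure (by simp)⟩, rfl⟩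
    · exact ⟨⟨(c, x), subset_closure (by simp)⟩, rfl⟩
    · exact ⟨⟨(n, x), subset_closure (by simp)⟩, rfl⟩
    · exact ⟨⟨(a, x), subset_closure (by simp)⟩, rfl⟩
  let M : Subgroup J := L.comap (MonoidHom.inr G J)
  have hM : M.Normal := ⟨fun j hj x => by
    obtain ⟨⟨⟨g, x'⟩, hgx⟩, rfl⟩ := hsnd x
    have := L.mul_mem (L.mul_mem hgx hj) (L.inv_mem hgx)
    simpa [M] using this⟩
  rcases hM.eq_bot_or_eq_top with hbot | htopM
  · -- the pair group is the graph of an isomorphism
    set f : L →* G := (MonoidHom.fst G J).comp L.subtype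
    have hfst : Function.Injective f := by
      rw [injective_iff_map_eq_one]
      rintro ⟨⟨g, j⟩, hgj⟩ h
      obtain rfl : g = 1 := h
      have hj : j ∈ M := hgj
      rw [hbot, Subgroup.mem_bot] at hj
      subst hj
      rfl
    have h1 := Nat.card_le_card_of_injective _ hfst
    have h2 := Nat.card_le_card_of_surjective _ hsnd
    have bf := hfst.bijective_of_nat_card_le (by omega)
    have bs := hsnd.bijective_of_nat_card_le (by omega)
    exact ⟨(MulEquiv.ofBijective f bf).symm.trans (MulEquiv.ofBijective _ bs)⟩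
  · -- otherwise it is a product, which is too large
    exfalso
    set K := L.map (MonoidHom.fst G J)
    have hKJ : K.prod ⊤ ≤ L := by
      rintro ⟨g, j⟩ ⟨hg, -⟩
      obtain ⟨⟨g', j'⟩, hgj, rfl⟩ := hg
      have hj : j'⁻¹ * j ∈ M := by rw [htopM]; exact Subgroup.mem_top _
      have hj' : ((1 : G), j'⁻¹ * j) ∈ L := hj
      simpa using L.mul_mem hgj hj'
    have hmem : ∀ x ∈ ({(z, z'), (u, u'), (t, t'), (c, c'), (n, n'), (a, a')} : Set (G × J)),
        x.1 ∈ K := fun x hx => ⟨x, subset_closure hx, rfl⟩
    have hCK : centralizer ({z} : Set G) ≤ K := by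
      rw [← hgen, closure_le]
      intro x hx
      simp only [Set.mem_insert_iff, Set.mem_singleton_iff] at hx
      rcases hx with rfl | rfl | rfl | rfl | rfl
      · exact hmem (x, z') (by simp)
      · exact hmem (x, u') (by simp)
      · exact hmem (x, t') (by simp)
      · exact hmem (x, c') (by simp)
      · exact hmem (x, n') (by simp)
    have h4 := R.card_ge hz (hmem (c, c') (by simp)) (hmem (a, a') (by simp)) hCK
    have h5 := (Nat.le_of_dvd Nat.card_pos (Subgroup.card_dvd_of_le hKJ)).trans hL
    rw [Nat.card_congr (Subgroup.prodEquiv _ _).toEquiv, Nat.card_prod, Nat.card_congr Subgroup.topEquiv.toEquiv, hJ] at h5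
    rw [hC] at h4
    have h6 := (Nat.mul_le_mul_right 50232960 h4).trans h5
    omega

end CfsgLib.JThreeUnique
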