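import Mathlib

/-!
Finite facts about two rotations of four-groups through an involution, among the even permutations of
six and of seven points.
-/

set_option autoImplicit false
set_option maxRecDepth 20000

namespace CfsgLib.JThreeUnique.HCheck

open Equiv

/-- Arrangements of `k` of the given entries. -/
def arr : ℕ → List ℕ → List (List ℕ)
  | 0, _ => [[]]
  | k + 1, av => av.flatMap fun a => (arr k (av.erase a)).map (List.cons a)

theorem mem_arr : ∀ (l av : List ℕ), l.Nodup → (∀ x ∈ l, x ∈ av) → l ∈ arr l.length av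
  | [], _, _, _ => by simp [arr]
  | a :: l, av, hd, hsub => by
    obtain ⟨ha, hl⟩ := List.nodup_cons.1 hd
    simp only [List.length_cons, arr, List.mem_flatMap, List.mem_map]
    exact ⟨a, hsub a (by simp), l, mem_arr l _ hl fun x hx =>
      (List.mem_erase_of_ne (ne_of_mem_of_not_mem hx ha)).2 (hsub x (by simp [hx])), rfl⟩

/-- Composition of lists of images. -/
def mc (a b : List ℕ) : List ℕ := b.map fun i => a.getD i 0

/-- A square is trivial. -/
def sq1 (id' x : List ℕ) : Bool := mc x x == id'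

/-- Conjugation by an element of order three. -/
def cj3 (h x : List ℕ) : List ℕ := mc (mc h x) (mc h h)

/-- A rotation of a four-group through `z`. -/
def rot (id' z h : List ℕ) : Bool :=
  mc h (mc h h) == id' && mc (cj3 h z) z == mc z (cj3 h z) && cj3 h (cj3 h z) == mc z (cj3 h z)

/-- The two four-groups generate the centraliser. -/
def pair (z x y : List ℕ) : Bool :=
  let u := cj3 x z
  let v := cj3 y z
  !(mc u v == mc v u) && mc (mc u v) (mc u v) == z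

/-- The condition is symmetrical. -/
def sym (id' z x y : List ℕ) : Bool :=
  sq1 id' (mc x (mc z (cj3 y z))) == sq1 id' (mc y (mc z (cj3 x z)))

/-- One of the two orientations. -/
def orient (id' z x y : List ℕ) : Bool :=
  sq1 id' (mc x (mc z (cj3 y z))) || sq1 id' (mc (mc x x) (cj3 y z))

/-- Some point is fixed. -/
def fixAny (n : ℕ) (l : List ℕ) : Bool := (List.range n).any fun i => l.getD i 0 == i

/-- The word centralising the first rotation. -/
def word (z x y : List ℕ) : List ℕ := mc (mc (mc y (mc x x)) z) (mc y y)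

/-- The conclusion on six points. -/
def concl6 (id' z x y : List ℕ) : Bool :=
  orient id' z x y && (!sq1 id' (mc x (mc z (cj3 y z))) ||
    (mc (word z x y) x == mc x (word z x y) && !(fixAny 6 x == fixAny 6 y)))

/-- The conclusion on seven points. -/
def concl7 (id' z x y : List ℕ) : Bool :=
  orient id' z x y && (!sq1 id' (mc x (mc z (cj3 y z))) ||
    (mc (mc x y) (mc (mc x y) (mc x y)) == id' || sq1 id' (mc (mc x y) (mc x y))))

theorem table6 :
    let id' := [0, 1, 2, 3, 4, 5]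
    let z := [0, 2, 1, 4, 3, 5]
    let cand := (arr 6 id').filter fun h => rot id' z h && !(h == id')
    cand.all (fun x => cand.all fun y => !pair z x y || !sym id' z x y || concl6 id' z x y) = true := by
  decide +kernel

theorem table7 :
    let id' := [0, 1, 2, 3, 4, 5, 6]
    let z := [0, 2, 1, 4, 3, 5, 6]
    let cand := (arr 7 id').filter fun h => rot id' z h && !(h == id')
    cand.all (fun x => !(x.getD 0 0 == 0) || cand.all fun y =>
      !((cj3 y z).getD 0 0 == 0) || y.getD 0 0 == 0 || !pair z x y || !sym id' z x y || concl7 id' z x y) = true := by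
  decide +kernel

/-- The list of images. -/
def code {n : ℕ} (p : Perm (Fin n)) : List ℕ := List.ofFn fun i => (p i : ℕ)

theorem code_length {n : ℕ} (p : Perm (Fin n)) : (code p).length = n := List.length_ofFn

theorem code_mem {n : ℕ} (p : Perm (Fin n)) : code p ∈ arr n (List.range n) := by
  have h := mem_arr (code p) (List.range n)
    (List.nodup_ofFn.2 fun i j h => p.injective (Fin.ext h))
    fun x hx => by
      obtain ⟨i, rfl⟩ := List.mem_ofFn.1 hx
      exact List.mem_range.2 (p i).2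
  rwa [code_length] at h

theorem code_getD {n : ℕ} (p : Perm (Fin n)) (i : Fin n) : (code p).getD i 0 = (p i : ℕ) := by
  rw [List.getD_eq_getElem _ _ (by rw [code_length]; exact i.2)]
  exact List.getElem_ofFn ..

theorem code_mul {n : ℕ} (p q : Perm (Fin n)) : code (p * q) = mc (code p) (code q) := by
  rw [mc]
  conv_rhs => arg 2; rw [code]
  rw [List.map_ofFn]
  conv_lhs => rw [code]
  exact congrArg List.ofFn (funext fun i => (code_getD p _).symm)

theorem code_inj {n : ℕ} {p q : Perm (Fin n)} : (code p == code q) = true ↔ p = q := by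
  rw [beq_iff_eq]
  exact ⟨fun h => Equiv.ext fun i => Fin.ext (congrFun (List.ofFn_injective h) i), fun h => h ▸ rfl⟩

theorem inv_three {G : Type*} [Group G] {h : G} (h3 : h ^ 3 = 1) : h⁻¹ = h * h :=
  inv_eq_of_mul_eq_one_right (by rw [← h3, pow_succ', pow_two])

theorem code_cj {n : ℕ} {h : Perm (Fin n)} (h3 : h ^ 3 = 1) (x : Perm (Fin n)) :
    code (h * x * h⁻¹) = cj3 (code h) (code x) := by
  rw [inv_three h3, code_mul, code_mul, code_mul, cj3]

theorem code_sq1 {n : ℕ} {p : Perm (Fin n)} : sq1 (code (1 : Perm (Fin n))) (code p) = true ↔ p * p = 1 := by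
  rw [sq1, ← code_mul, code_inj]

theorem code_fixAny {n : ℕ} (p : Perm (Fin n)) : fixAny n (code p) = true ↔ ∃ i, p i = i := by
  simp only [fixAny, List.any_eq_true, List.mem_range, beq_iff_eq]
  constructor
  · rintro ⟨i, hi, h⟩
    refine ⟨⟨i, hi⟩, Fin.ext ?_⟩
    rw [← code_getD p ⟨i, hi⟩]; exact h
  · rintro ⟨i, h⟩
    exact ⟨i, i.2, by rw [code_getD, h]⟩

/-- Two rotations with their four-groups generating the centraliser of the involution. -/
structure Cfg {n : ℕ} (Z X Y : Perm (Fin n)) : Prop where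
  x3 : X ^ 3 = 1
  x1 : X ≠ 1
  y3 : Y ^ 3 = 1
  y1 : Y ≠ 1
  xc : X * Z * X⁻¹ * Z = Z * (X * Z * X⁻¹)
  xr : X * (X * Z * X⁻¹) * X⁻¹ = Z * (X * Z * X⁻¹)
  yc : Y * Z * Y⁻¹ * Z = Z * (Y * Z * Y⁻¹)
  yr : Y * (Y * Z * Y⁻¹) * Y⁻¹ = Z * (Y * Z * Y⁻¹)
  ncomm : X * Z * X⁻¹ * (Y * Z * Y⁻¹) ≠ Y * Z * Y⁻¹ * (X * Z * X⁻¹)
  uv : X * Z * X⁻¹ * (Y * Z * Y⁻¹) * (X * Z * X⁻¹ * (Y * Z * Y⁻¹)) = Z
  sym : X * (Z * (Y * Z * Y⁻¹)) * (X * (Z * (Y * Z * Y⁻¹))) = 1 ↔
    Y * (Z * (X * Z * X⁻¹)) * (Y * (Z * (X * Z * X⁻¹))) = 1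

theorem Cfg.map {n : ℕ} {Z X Y : Perm (Fin n)} (C : Cfg Z X Y) (φ : Perm (Fin n) ≃* Perm (Fin n)) :
    Cfg (φ Z) (φ X) (φ Y) where
  x3 := by rw [← map_pow, C.x3, map_one]
  x1 := fun e => C.x1 (φ.map_eq_one_iff.1 e)
  y3 := by rw [← map_pow, C.y3, map_one]
  y1 := fun e => C.y1 (φ.map_eq_one_iff.1 e)
  xc := by simp only [← map_inv, ← map_mul, C.xc]
  xr := by simp only [← map_inv, ← map_mul, C.xr]
  yc := by simp only [← map_inv, ← map_mul, C.yc]
  yr := by simp only [← map_inv, ← map_mul, C.yr]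
  ncomm := by simpa only [← map_inv, ← map_mul, ne_eq, φ.injective.eq_iff] using C.ncomm
  uv := by simp only [← map_inv, ← map_mul, C.uv]
  sym := by simpa only [← map_inv, ← map_mul, φ.map_eq_one_iff] using C.sym

theorem Cfg.code_rot {n : ℕ} {Z X : Perm (Fin n)} (h3 : X ^ 3 = 1) (h1 : X ≠ 1)
    (hc : X * Z * X⁻¹ * Z = Z * (X * Z * X⁻¹)) (hr : X * (X * Z * X⁻¹) * X⁻¹ = Z * (X * Z * X⁻¹)) :
    (rot (code (1 : Perm (Fin n))) (code Z) (code X) && !(code X == code (1 : Perm (Fin n)))) = true := by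
  simp only [rot, ← code_cj h3, ← code_mul, Bool.and_eq_true, Bool.not_eq_true', ← Bool.not_eq_true,
    code_inj]
  refine ⟨⟨⟨?_, hc⟩, hr⟩, h1⟩
  rw [← h3, pow_succ', pow_two]

theorem Cfg.code_pair {n : ℕ} {Z X Y : Perm (Fin n)} (C : Cfg Z X Y) :
    pair (code Z) (code X) (code Y) = true ∧ HCheck.sym (code (1 : Perm (Fin n))) (code Z) (code X) (code Y) = true := by
  constructor
  · simp only [pair, ← code_cj C.x3, ← code_cj C.y3, ← code_mul, Bool.and_eq_true, Bool.not_eq_true',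
      ← Bool.not_eq_true, code_inj]
    exact ⟨C.ncomm, C.uv⟩
  · simp only [HCheck.sym, ← code_cj C.x3, ← code_cj C.y3, ← code_mul, beq_iff_eq]
    rw [Bool.eq_iff_iff, code_sq1, code_sq1]
    exact C.sym

/-- The standard involution on six points. -/
def z6 : Perm (Fin 6) := Equiv.swap 1 2 * Equiv.swap 3 4

/-- The standard involution on seven points. -/
def z7 : Perm (Fin 7) := Equiv.swap 1 2 * Equiv.swap 3 4

theorem core6 {X Y : Perm (Fin 6)} (C : Cfg z6 X Y) :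
    (X * (z6 * (Y * z6 * Y⁻¹)) * (X * (z6 * (Y * z6 * Y⁻¹))) = 1 ∨
      X⁻¹ * (Y * z6 * Y⁻¹) * (X⁻¹ * (Y * z6 * Y⁻¹)) = 1) ∧
    (X * (z6 * (Y * z6 * Y⁻¹)) * (X * (z6 * (Y * z6 * Y⁻¹))) = 1 →
      (Y * X⁻¹ * z6 * Y⁻¹ * X = X * (Y * X⁻¹ * z6 * Y⁻¹)) ∧ ¬ ((∃ i, X i = i) ↔ ∃ i, Y i = i)) := by
  have h := table6
  simp only at h
  rw [show [0, 1, 2, 3, 4, 5] = code (1 : Perm (Fin 6)) by decide,
    show [0, 2, 1, 4, 3, 5] = code z6 by decide] at h
  have hm : ∀ p : Perm (Fin 6), code p ∈ arr 6 (code (1 : Perm (Fin 6))) := fun p => by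
    rw [show code (1 : Perm (Fin 6)) = List.range 6 by decide]; exact code_mem p
  have h := List.all_eq_true.1 (List.all_eq_true.1 h (code X)
    (List.mem_filter.2 ⟨hm X, Cfg.code_rot C.x3 C.x1 C.xc C.xr⟩)) (code Y)
    (List.mem_filter.2 ⟨hm Y, Cfg.code_rot C.y3 C.y1 C.yc C.yr⟩)
  rw [C.code_pair.1, C.code_pair.2] at h
  simp only [Bool.not_true, Bool.false_or] at h
  rw [inv_three C.x3, inv_three C.y3]
  simp only [concl6, orient, word, ← code_cj C.y3, ← code_mul, Bool.and_eq_true, Bool.or_eq_true,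
    Bool.not_eq_true', ← Bool.not_eq_true, code_sq1, code_inj] at h
  rw [inv_three C.y3] at h
  refine ⟨h.1, fun h1 => ?_⟩
  obtain ⟨h2, h3⟩ := h.2.resolve_left (fun h' => h' h1)
  refine ⟨h2, fun h' => h3 ?_⟩
  rw [beq_iff_eq, Bool.eq_iff_iff, code_fixAny, code_fixAny]
  exact h'

theorem core7 {X Y : Perm (Fin 7)} (C : Cfg z7 X Y) (hX : X 0 = 0) (hY : Y 0 ≠ 0)
    (hV : (Y * z7 * Y⁻¹) 0 = 0) :
    (X * (z7 * (Y * z7 * Y⁻¹)) * (X * (z7 * (Y * z7 * Y⁻¹))) = 1 ∨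
      X⁻¹ * (Y * z7 * Y⁻¹) * (X⁻¹ * (Y * z7 * Y⁻¹)) = 1) ∧
    (X * (z7 * (Y * z7 * Y⁻¹)) * (X * (z7 * (Y * z7 * Y⁻¹))) = 1 →
      ((X * Y) ^ 3 = 1 ∨ (X * Y) ^ 4 = 1)) := by
  have h := table7
  simp only at h
  rw [show [0, 1, 2, 3, 4, 5, 6] = code (1 : Perm (Fin 7)) by decide,
    show [0, 2, 1, 4, 3, 5, 6] = code z7 by decide] at h
  have hm : ∀ p : Perm (Fin 7), code p ∈ arr 7 (code (1 : Perm (Fin 7))) := fun p => by
    rw [show code (1 : Perm (Fin 7)) = List.range 7 by decide]; exact code_mem p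
  have h := List.all_eq_true.1 h (code X)
    (List.mem_filter.2 ⟨hm X, Cfg.code_rot C.x3 C.x1 C.xc C.xr⟩)
  rw [show ((code X).getD 0 0 == 0) = true by
    rw [beq_iff_eq]; exact (code_getD X 0).trans (congrArg Fin.val hX), Bool.not_true, Bool.false_or] at h
  have h := List.all_eq_true.1 h (code Y)
    (List.mem_filter.2 ⟨hm Y, Cfg.code_rot C.y3 C.y1 C.yc C.yr⟩)
  rw [C.code_pair.1, C.code_pair.2, show ((cj3 (code Y) (code z7)).getD 0 0 == 0) = true by
    rw [beq_iff_eq, ← code_cj C.y3]; exact (code_getD _ 0).trans (congrArg Fin.val hV),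
    show ((code Y).getD 0 0 == 0) = false by
    rw [beq_eq_false_iff_ne]; exact fun e => hY (Fin.ext ((code_getD Y 0).symm.trans e))] at h
  simp only [Bool.not_true, Bool.false_or, Bool.or_false] at h
  rw [inv_three C.x3, inv_three C.y3]
  simp only [concl7, orient, ← code_cj C.y3, ← code_mul, Bool.and_eq_true, Bool.or_eq_true,
    Bool.not_eq_true', ← Bool.not_eq_true, code_sq1, code_inj] at h
  rw [inv_three C.y3] at h
  refine ⟨h.1, fun h1 => (h.2.resolve_left fun h' => h' h1).imp (fun e => ?_) fun e => ?_⟩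
  · rw [pow_succ', pow_two]; exact e
  · rw [show (4 : ℕ) = 2 + 2 from rfl, pow_add, pow_two]; exact e

theorem conj_z6 {Z : Perm (Fin 6)} (h2 : Z * Z = 1) (h1 : Z ≠ 1) (hs : Perm.sign Z = 1) : IsConj Z z6 := by
  rw [Perm.isConj_iff_cycleType_eq, show z6.cycleType = Multiset.replicate 2 2 by decide +kernel]
  have : Fact (Nat.Prime 2) := ⟨Nat.prime_two⟩
  have h := Perm.cycleType_of_pow_prime_eq_one (p := 2) (σ := Z) (by rw [pow_two]; exact h2)
  have hle := Perm.sum_cycleType_le Z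
  have h0 : Multiset.card Z.cycleType ≠ 0 := fun e => h1 (Perm.card_cycleType_eq_zero.1 e)
  rw [Perm.sign_of_cycleType, h, Multiset.sum_replicate, Multiset.card_replicate, smul_eq_mul] at hs
  rw [h, Multiset.sum_replicate, smul_eq_mul, Fintype.card_fin] at hle
  rw [h]
  congr 1
  generalize hk : Multiset.card Z.cycleType = k at *
  have hk3 : k ≤ 3 := by omega
  interval_cases k <;> first | rfl | (simp at h0; done) | (exfalso; revert hs; decide)

theorem conj_z7 {Z : Perm (Fin 7)} (h2 : Z * Z = 1) (h1 : Z ≠ 1) (hs : Perm.sign Z = 1) (h0 : Z 0 = 0) :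
    ∃ σ : Perm (Fin 7), σ 0 = 0 ∧ σ * Z * σ⁻¹ = z7 := by
  have : Fact (Nat.Prime 2) := ⟨Nat.prime_two⟩
  have hc : IsConj Z z7 := by
    rw [Perm.isConj_iff_cycleType_eq, show z7.cycleType = Multiset.replicate 2 2 by decide +kernel]
    have h := Perm.cycleType_of_pow_prime_eq_one (p := 2) (σ := Z) (by rw [pow_two]; exact h2)
    have hle := Perm.sum_cycleType_le Z
    have h0 : Multiset.card Z.cycleType ≠ 0 := fun e => h1 (Perm.card_cycleType_eq_zero.1 e)
    rw [Perm.sign_of_cycleType, h, Multiset.sum_replicate, Multiset.card_replicate, smul_eq_mul] at hs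
    rw [h, Multiset.sum_replicate, smul_eq_mul, Fintype.card_fin] at hle
    rw [h]
    congr 1
    generalize hk : Multiset.card Z.cycleType = k at *
    have hk3 : k ≤ 3 := by omega
    interval_cases k <;> first | rfl | (simp at h0; done) | (exfalso; revert hs; decide)
  obtain ⟨σ, hσ⟩ := isConj_iff.1 hc
  have hf : z7 (σ 0) = σ 0 := by
    rw [← hσ, Perm.mul_apply, Perm.mul_apply, Perm.inv_def, Equiv.symm_apply_apply, h0]
  have key : ∀ i : Fin 7, z7 i = i → Equiv.swap 0 i * z7 = z7 * Equiv.swap 0 i := by decide +kernel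
  refine ⟨Equiv.swap 0 (σ 0) * σ, by simp, ?_⟩
  rw [mul_inv_rev, show Equiv.swap 0 (σ 0) * σ * Z * (σ⁻¹ * (Equiv.swap 0 (σ 0))⁻¹) =
    Equiv.swap 0 (σ 0) * (σ * Z * σ⁻¹) * (Equiv.swap 0 (σ 0))⁻¹ by group, hσ, key _ hf, mul_inv_cancel_right]

/-- The facts on six points. -/
theorem six {Z X Y : Perm (Fin 6)} (h2 : Z * Z = 1) (h1 : Z ≠ 1) (hs : Perm.sign Z = 1) (C : Cfg Z X Y) :
    (X * (Z * (Y * Z * Y⁻¹)) * (X * (Z * (Y * Z * Y⁻¹))) = 1 ∨
      X⁻¹ * (Y * Z * Y⁻¹) * (X⁻¹ * (Y * Z * Y⁻¹)) = 1) ∧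
    (X * (Z * (Y * Z * Y⁻¹)) * (X * (Z * (Y * Z * Y⁻¹))) = 1 →
      Y * X⁻¹ * Z * Y⁻¹ * X = X * (Y * X⁻¹ * Z * Y⁻¹) ∧
        ∀ g : Perm (Fin 6), g * X * g⁻¹ ≠ Y ∧ g * X * g⁻¹ ≠ Y⁻¹) := by
  obtain ⟨σ, hσ⟩ := isConj_iff.1 (conj_z6 h2 h1 hs)
  have C' := C.map (MulAut.conj σ)
  have hz : MulAut.conj σ Z = z6 := hσ
  rw [hz] at C'
  obtain ⟨a, b⟩ := core6 C'
  simp only [← hz, ← map_inv, ← map_mul, MulEquiv.map_eq_one_iff, EmbeddingLike.apply_eq_iff_eq] at a b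
  refine ⟨a, fun h => ⟨(b h).1, fun g => ?_⟩⟩
  have hne := (b h).2
  have hfix : ∀ (p q : Perm (Fin 6)), (∃ i, (p * q * p⁻¹) i = i) ↔ ∃ i, q i = i := fun p q =>
    ⟨fun ⟨i, hi⟩ => ⟨p⁻¹ i, by
      have := congrArg (⇑p⁻¹) hi
      simpa using this⟩, fun ⟨i, hi⟩ => ⟨p i, by simp [hi]⟩⟩
  have hinv : ∀ q : Perm (Fin 6), (∃ i, q⁻¹ i = i) ↔ ∃ i, q i = i := fun q =>
    ⟨fun ⟨i, hi⟩ => ⟨i, (Equiv.symm_apply_eq q).1 hi |>.symm⟩, fun ⟨i, hi⟩ => ⟨i, (Equiv.symm_apply_eq q).2 hi.symm⟩⟩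
  have hφ : ∀ q, (MulAut.conj σ) q = σ * q * σ⁻¹ := fun q => rfl
  rw [hφ, hφ, hfix, hfix] at hne
  constructor <;> intro e <;> refine hne ?_
  · rw [← e, hfix]
  · rw [← hfix g X, e, hinv]

/-- The facts on seven points. -/
theorem seven {Z X Y : Perm (Fin 7)} (h2 : Z * Z = 1) (h1 : Z ≠ 1) (hs : Perm.sign Z = 1) (h0 : Z 0 = 0)
    (C : Cfg Z X Y) (hX : X 0 = 0) (hY : Y 0 ≠ 0)
    (hV : (Y * Z * Y⁻¹) 0 = 0) :
    (X * (Z * (Y * Z * Y⁻¹)) * (X * (Z * (Y * Z * Y⁻¹))) = 1 ∨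
      X⁻¹ * (Y * Z * Y⁻¹) * (X⁻¹ * (Y * Z * Y⁻¹)) = 1) ∧
    (X * (Z * (Y * Z * Y⁻¹)) * (X * (Z * (Y * Z * Y⁻¹))) = 1 →
      ((X * Y) ^ 3 = 1 ∨ (X * Y) ^ 4 = 1)) := by
  obtain ⟨σ, hσ0, hσ⟩ := conj_z7 h2 h1 hs h0
  have C' := C.map (MulAut.conj σ)
  have hz : MulAut.conj σ Z = z7 := hσ
  rw [hz] at C'
  have hs0 : σ⁻¹ 0 = 0 := by conv_lhs => rw [← hσ0]; simp
  obtain ⟨a, b⟩ := core7 C' (by rw [MulAut.conj_apply, Perm.mul_apply, Perm.mul_apply, hs0, hX, hσ0]) (fun e => hY (σ.injective (by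
    rw [MulAut.conj_apply, Perm.mul_apply, Perm.mul_apply, hs0] at e
    rw [e, hσ0]))) (by
    rw [← hz, ← map_inv, ← map_mul, ← map_mul, MulAut.conj_apply, Perm.mul_apply, Perm.mul_apply, hs0,
      hV, hσ0])
  simp only [← hz, ← map_inv, ← map_mul, ← map_pow, MulEquiv.map_eq_one_iff] at a b
  exact ⟨a, b⟩

end CfsgLib.JThreeUnique.HCheck
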