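import Cfsg.Agent.Lib.JThreeUnique.ModelData
import Cfsg.Agent.Lib.Sporadic.J3DataSub
import Cfsg.Agent.Lib.Sporadic.J3DataCert
import Cfsg.Agent.Lib.Sporadic.MatF2

/-! Kernel evaluation of the checks on the six elements of the triple cover of J3. -/

set_option autoImplicit false
set_option maxRecDepth 100000
set_option Elab.async false

namespace CfsgLib.JThreeUnique.Model

open CfsgLib.Sporadic CfsgLib.Sporadic.J3

/-- The value of a word in the six elements. -/
noncomputable def val (w : List ℕ) : ℕ := genWord (mulF2 18) one sixCodes w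

/-- Equality of two words up to a scalar. -/
noncomputable def same (w v : List ℕ) : Bool :=
  [0, 1, 2].any fun k => val w == mulF2 18 (scalars.getD k one) (val v)

theorem six_ok : sixWords.map (fun p => mulF2 18 (scalars.getD p.1 one)
    (genWord (mulF2 18) one topGens p.2)) = sixCodes := by decide +kernel

theorem top_ok : topWords6.map (fun p => mulF2 18 (scalars.getD p.1 one) (val p.2)) = topGens := by
  decide +kernel

theorem five_take : fiveCodes = sixCodes.take 5 := by decide +kernel

theorem five_par : allFrom 0 1920 (parentOK (mulF2 18) one fiveCodes 1920 fiveT fivePar) = true := by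
  decide +kernel

theorem five_fac0 :
    allFrom 0 4800 (stepOK (mulF2 18) one fiveCodes 1920 fiveT fiveFac []) = true := by
  decide +kernel

theorem five_fac1 :
    allFrom 4800 4800 (stepOK (mulF2 18) one fiveCodes 1920 fiveT fiveFac []) = true := by
  decide +kernel

theorem five_dist :
    allFrom 0 1920 (distinctOK (canonF2 18) 1920 fiveT fiveSrt fivePos fiveInv) = true := by
  decide +kernel

theorem five_scalar : (allFrom 0 1920 fun i =>
    i == 0 || !(scalars.contains (fiveT.get i))) = true := by decide +kernel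

theorem scalars_canon : (scalars.all (canonF2 18) && sixCodes.all (canonF2 18)) = true := by
  decide +kernel

theorem rel_ok : ([([0, 0], []), ([1, 1], []), ([2, 2], []), ([3, 3], []), ([4, 4, 4], []),
    ([5, 5, 5], []), ([0, 1], [1, 0]), ([0, 2], [2, 0]), ([0, 4], [4, 0]), ([0, 3], [3, 0]),
    ([1, 2], [2, 1]), ([1, 4], [4, 1]), ([4, 2, 4, 2, 4, 2], []), ([5, 2], [2, 5]), ([5, 4], [4, 5]),
    ([5, 0, 5, 5], [1]), ([5, 1, 5, 5], [0, 1]), ([3, 4, 3, 4], []), ([3, 2, 3, 2, 3, 2], []),
    ([5, 0, 4, 3, 1, 3, 5, 0, 4, 3, 1, 3], []),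
    ([3, 5, 3, 5, 5, 0, 3, 5, 5, 3, 5], [5, 3, 5, 3, 5, 5, 0, 3, 5, 5, 3])] :
      List (List ℕ × List ℕ)).all (fun p => same p.1 p.2) = true := by decide +kernel

theorem z_ne : [0, 1, 2].all (fun k => !(sixCodes.getD 0 one == scalars.getD k one)) = true := by
  decide +kernel

end CfsgLib.JThreeUnique.Model
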