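import Cfsg.Agent.Lib.JThreeUnique.Rels
import Cfsg.Agent.Lib.JThreeUnique.ModelCert
import Cfsg.Agent.Lib.Sporadic.J3Involution

/-! Six elements of J3 satisfying the relations: five generate an involution centraliser, six everything. -/

set_option autoImplicit false
set_option maxRecDepth 100000

noncomputable section

namespace CfsgLib.JThreeUnique

open Cfsg.Spor CfsgLib.Sporadic CfsgLib.Sporadic.J3

variable {F : Type*} [Field F] {ω : F} (h : FieldFour F ω)
include h

private theorem exists_scalar (k : ℕ) :
    ∃ g : threeJ3 F ω, h.Has g (scalars.getD k one) ∧ g ∈ Subgroup.center (threeJ3 F ω) := by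
  rcases Nat.lt_or_ge k 3 with hk | hk
  · obtain ⟨g, hg, e⟩ := h.scalar_mem (k : ZMod 3)
    refine ⟨⟨g, hg⟩, ?_, scalar_central e⟩
    show h.emb g = _
    have hv : ((k : ZMod 3)).val = k := ZMod.val_natCast_of_lt hk
    rw [show h.emb g = h.big (g : Matrix F9 F9 F) from rfl, e, h.big_scalar, hv]
  · refine ⟨1, ?_, one_mem _⟩
    have hl : scalars.length = 3 := by decide +kernel
    rw [List.getD_eq_default _ _ (by omega)]
    exact h.has_one

private theorem mk_word {gens : List ℕ} (lifts : ℕ → threeJ3 F ω)
    (hl : ∀ j, h.Has (lifts j) (gens.getD j one)) :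
    ∀ w : List ℕ, h.Has ((w.map lifts).prod) (genWord (mulF2 18) one gens w)
  | [] => h.has_one
  | j :: js => by
    rw [List.map_cons, List.prod_cons, genWord_cons]
    exact (hl j).mul h (mk_word lifts hl js)

/-- The model of the relations in J3. -/
theorem exists_model : ∃ z u t c n a : J3 F ω, orderOf z = 2 ∧ Rels z u t c n a ∧
    Subgroup.closure {z, u, t, c, n} = Subgroup.centralizer {z} ∧
    Nat.card (Subgroup.centralizer ({z} : Set (J3 F ω))) = 1920 ∧
    Subgroup.closure {z, u, t, c, n, a} = ⊤ := by
  classical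
  have := h.finiteGL
  have := h.finite_threeJ3
  let π : threeJ3 F ω →* J3 F ω := QuotientGroup.mk' _
  -- lifts with the codes
  have hlift : ∀ j : ℕ, ∃ g : threeJ3 F ω, h.Has g (Model.sixCodes.getD j one) := by
    intro j
    rcases Nat.lt_or_ge j Model.sixCodes.length with hj | hj
    · have hj' : j < Model.sixWords.length := by
        rw [← Model.six_ok, List.length_map] at hj
        exact hj
      obtain ⟨s, hs, -⟩ := exists_scalar h (Model.sixWords[j]).1
      obtain ⟨g, hg⟩ := h.exists_has_word (Model.sixWords[j]).2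
      refine ⟨s * g, ?_⟩
      have e : Model.sixCodes.getD j one = mulF2 18 (scalars.getD (Model.sixWords[j]).1 one)
          (genWord (mulF2 18) one topGens (Model.sixWords[j]).2) := by
        rw [← Model.six_ok, List.getD_eq_getElem _ _ (by rw [List.length_map]; exact hj'),
          List.getElem_map]
      rw [e]
      exact hs.mul h hg
    · refine ⟨1, ?_⟩
      rw [List.getD_eq_default _ _ hj]
      exact h.has_one
  choose y hy using hlift
  have hval : ∀ w : List ℕ, h.Has ((w.map y).prod) (Model.val w) := mk_word h y hy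
  let x : ℕ → J3 F ω := fun j => π (y j)
  have hsame : ∀ w v : List ℕ, Model.same w v = true → (w.map x).prod = (v.map x).prod := by
    intro w v e
    simp only [Model.same, List.any_eq_true, beq_iff_eq] at e
    obtain ⟨k, -, e⟩ := e
    obtain ⟨s, hs, hsc⟩ := exists_scalar h k
    have := (hval w).eq h (hs.mul h (hval v)) e
    have hm : π s = 1 := (QuotientGroup.eq_one_iff s).2 hsc
    have e2 := congrArg π this
    rw [map_mul, hm, one_mul, map_list_prod, map_list_prod, List.map_map, List.map_map] at e2
    exact e2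
  have hR := Model.rel_ok
  simp only [List.all_cons, List.all_nil, Bool.and_true, Bool.and_eq_true] at hR
  obtain ⟨r1, r2, r3, r4, r5, r6, r7, r8, r9, r10, r11, r12, r13, r14, r15, r16, r17, r18, r19,
    r20, r21⟩ := hR
  have e6 : x 5 * x 5 * x 5 = 1 := by simpa [mul_assoc] using hsame _ _ r6
  have hainv : (x 5)⁻¹ = x 5 * x 5 := inv_eq_of_mul_eq_one_right (by rw [← mul_assoc]; exact e6)
  refine ⟨x 0, x 1, x 2, x 3, x 4, x 5, ?_⟩
  have e1 : x 0 * x 0 = 1 := by simpa using hsame _ _ r1
  have hz1 : x 0 ≠ 1 := by
    intro e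
    have hc : y 0 ∈ Subgroup.center (threeJ3 F ω) := (QuotientGroup.eq_one_iff (y 0)).1 e
    obtain ⟨k, hk⟩ := h.center_scalar hc
    have hb : h.emb (y 0).1 = decF2 18 (scalars.getD k.val one) := by
      rw [show h.emb (y 0).1 = h.big ((y 0).1 : Matrix F9 F9 F) from rfl, hk, h.big_scalar, decScalar]
    have hcan := Model.scalars_canon
    simp only [Bool.and_eq_true, List.all_eq_true] at hcan
    have hl : scalars.length = 3 := by decide +kernel
    have hl6 : 0 < Model.sixCodes.length := by decide +kernel
    have heq := dec_inj _ _ (hcan.2 _ (by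
      rw [List.getD_eq_getElem _ _ hl6]; exact List.getElem_mem _)) (hcan.1 _ (by
      rw [List.getD_eq_getElem _ _ (by rw [hl]; exact k.val_lt)]; exact List.getElem_mem _))
      ((hy 0).symm.trans hb)
    have hz := List.all_eq_true.1 Model.z_ne k.val (by
      have := k.val_lt
      simp only [List.mem_cons, List.not_mem_nil, or_false]
      omega)
    simp only [Bool.not_eq_true', beq_eq_false_iff_ne] at hz
    exact hz heq
  have hz2 : orderOf (x 0) = 2 := orderOf_eq_prime (by rw [pow_two]; exact e1) hz1
  have R : Rels (x 0) (x 1) (x 2) (x 3) (x 4) (x 5) :=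
    { z2 := e1
      u2 := by simpa using hsame _ _ r2
      t2 := by simpa using hsame _ _ r3
      c2 := by simpa using hsame _ _ r4
      n3 := by simpa [mul_assoc] using hsame _ _ r5
      a3 := e6
      zu := by simpa using hsame _ _ r7
      zt := by simpa using hsame _ _ r8
      zn := by simpa using hsame _ _ r9
      zc := by simpa using hsame _ _ r10
      ut := by simpa using hsame _ _ r11
      un := by simpa using hsame _ _ r12
      nt := by simpa [mul_assoc] using hsame _ _ r13
      tta := by simpa using hsame _ _ r14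
      an := by simpa using hsame _ _ r15
      az := by rw [hainv]; simpa [mul_assoc] using hsame _ _ r16
      au := by rw [hainv]; simpa [mul_assoc] using hsame _ _ r17
      cn := by simpa [mul_assoc] using hsame _ _ r18
      ct := by simpa [mul_assoc] using hsame _ _ r19
      two := by simpa [mul_assoc] using hsame _ _ r20
      fix := by
        rw [fixWord, hainv]
        simpa [mul_assoc] using hsame _ _ r21 }
  -- all of J3
  have htop : Subgroup.closure {x 0, x 1, x 2, x 3, x 4, x 5} = (⊤ : Subgroup (J3 F ω)) := by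
    set K := Subgroup.closure {x 0, x 1, x 2, x 3, x 4, x 5} with hK
    have hx : ∀ j, x j ∈ K := by
      intro j
      rcases Nat.lt_or_ge j 6 with hj | hj
      · interval_cases j <;> exact Subgroup.subset_closure (by simp)
      · have h6 : Model.sixCodes.length = 6 := by decide +kernel
        have e : y j = 1 := (hy j).eq h h.has_one (List.getD_eq_default _ _ (by omega))
        show π (y j) ∈ K
        rw [e, map_one]
        exact one_mem K
    have hall : ∀ c ∈ topGens, CodeMem h.emb (decF2 18) ((K.comap π).map (threeJ3 F ω).subtype) c := by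
      intro c hc
      rw [← Model.top_ok] at hc
      obtain ⟨p, -, rfl⟩ := List.mem_map.1 hc
      obtain ⟨s, hs, hsc⟩ := exists_scalar h p.1
      refine ⟨(s * (p.2.map y).prod).1, ⟨s * (p.2.map y).prod, ?_, rfl⟩, hs.mul h (hval p.2)⟩
      show π _ ∈ K
      rw [map_mul, show π s = 1 from (QuotientGroup.eq_one_iff s).2 hsc, one_mul, map_list_prod, List.map_map]
      exact list_prod_mem fun g hg => by
        obtain ⟨j, -, rfl⟩ := List.mem_map.1 hg
        exact hx j
    have hle : threeJ3 F ω ≤ (K.comap π).map (threeJ3 F ω).subtype :=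
      h.threeJ3_eq.trans_le (genSet_closure_le h.emb_injective hall)
    rw [eq_top_iff]
    intro g _
    obtain ⟨g', rfl⟩ := QuotientGroup.mk_surjective g
    obtain ⟨v, hv, e⟩ := hle g'.2
    obtain rfl : v = g' := Subtype.ext e
    exact hv
  -- the centraliser
  have hcard : Nat.card (Subgroup.centralizer ({x 0} : Set (J3 F ω))) = 1920 := by
    obtain ⟨t, ht, Q, hQn, -, hQ, -, -, ⟨e⟩⟩ := h.exists_centralizer_structure
    obtain ⟨g, hg⟩ := isConj_iff.1 (h.isConj_involutions t (x 0) ht hz2)
    have h1 : Nat.card (Subgroup.centralizer ({t} : Set (J3 F ω))) = 1920 := by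
      rw [Subgroup.card_eq_card_quotient_mul_card_subgroup Q, Nat.card_congr e.toEquiv, hQ,
        nat_card_alternatingGroup, Nat.card_fin]
      rfl
    have h2 : (Subgroup.centralizer ({t} : Set (J3 F ω))).map (MulAut.conj g).toMonoidHom =
        Subgroup.centralizer ({x 0} : Set (J3 F ω)) := by
      ext v
      rw [Subgroup.mem_map, Subgroup.mem_centralizer_singleton_iff, ← hg]
      constructor
      · rintro ⟨w, hw, rfl⟩
        rw [Subgroup.mem_centralizer_singleton_iff] at hw
        show g * w * g⁻¹ * (g * t * g⁻¹) = g * t * g⁻¹ * (g * w * g⁻¹)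
        calc g * w * g⁻¹ * (g * t * g⁻¹) = g * (w * t) * g⁻¹ := by group
          _ = g * (t * w) * g⁻¹ := by rw [hw]
          _ = _ := by group
      · intro hv
        refine ⟨g⁻¹ * v * g, ?_, by show g * (g⁻¹ * v * g) * g⁻¹ = v; group⟩
        rw [Subgroup.mem_centralizer_singleton_iff]
        calc g⁻¹ * v * g * t = g⁻¹ * (v * (g * t * g⁻¹)) * g := by group
          _ = g⁻¹ * (g * t * g⁻¹ * v) * g := by rw [hv]
          _ = _ := by group
    rw [← h2, Subgroup.card_map_of_injective (MulAut.conj g).injective, h1]
  refine ⟨hz2, R, ?_, hcard, htop⟩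
  have hle : Subgroup.closure {x 0, x 1, x 2, x 3, x 4} ≤ Subgroup.centralizer ({x 0} : Set (J3 F ω)) := by
    rw [Subgroup.closure_le]
    intro v hv
    rw [SetLike.mem_coe, Subgroup.mem_centralizer_singleton_iff]
    rcases hv with rfl | rfl | rfl | rfl | rfl
    exacts [rfl, R.zu.symm, R.zt.symm, R.zc.symm, R.zn.symm]
  refine Subgroup.eq_of_le_of_card_ge hle ?_
  rw [hcard]
  set L₀ := Subgroup.closure (genSet h.emb (decF2 18) Model.fiveCodes) with hL₀
  have h5 : Model.fiveCodes.length = 5 := by decide +kernel
  have h6 : Model.sixCodes.length = 6 := by decide +kernel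
  have hget : ∀ j < 5, Model.fiveCodes.getD j one = Model.sixCodes.getD j one := by
    intro j hj
    rw [Model.five_take, List.getD_eq_getElem _ _ (by simp; omega), List.getElem_take,
      List.getD_eq_getElem _ _ (by omega)]
  let L := Subgroup.closure {y 0, y 1, y 2, y 3, y 4}
  have hfive : ∀ c ∈ Model.fiveCodes, CodeMem h.emb (decF2 18) (L.map (threeJ3 F ω).subtype) c := by
    intro c hc
    obtain ⟨j, hj, rfl⟩ := List.getElem_of_mem hc
    rw [← List.getD_eq_getElem Model.fiveCodes one hj, hget j (h5 ▸ hj)]
    refine ⟨(y j).1, ⟨y j, ?_, rfl⟩, hy j⟩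
    have : j < 5 := h5 ▸ hj
    interval_cases j <;> exact Subgroup.subset_closure (by simp)
  have hall : allFrom 0 (Model.fiveCodes.length * 1920)
      (stepOK (mulF2 18) one Model.fiveCodes 1920 Model.fiveT Model.fiveFac []) = true := by
    rw [h5, show 5 * 1920 = 4800 + 4800 from rfl]
    exact allFrom_append Model.five_fac0 Model.five_fac1
  obtain ⟨hcard0, -⟩ := card_genSet_eq (emb := h.emb) (dec := decF2 18) (mul := mulF2 18) (one := one)
    mulF2_dec dec_one h.emb_injective dec_inj hfive (by norm_num) (by decide +kernel)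
    Model.five_par hall Model.five_dist
  have hmem := table_mem (emb := h.emb) (dec := decF2 18) (mul := mulF2 18) (one := one)
    mulF2_dec dec_one hfive Model.five_par
  -- the table stays distinct modulo the centre
  have hfac := exists_factor (emb := h.emb) (dec := decF2 18) (mul := mulF2 18) (one := one)
    mulF2_dec dec_one (S := genSet h.emb (decF2 18) Model.fiveCodes) (K := (⊥ : Subgroup (GL F9 F)))
    (T := Model.fiveT) (fac := Model.fiveFac) (lower := []) (by norm_num : 0 < 1920) (by decide +kernel)
    (fun s hs => hs) (by simp) hall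
  have hL : Nat.card (L₀.subgroupOf (threeJ3 F ω)) = 1920 := by
    have hle0 : L₀ ≤ threeJ3 F ω :=
      (genSet_closure_le h.emb_injective hfive).trans (Subgroup.map_subtype_le _)
    rw [Nat.card_congr (Subgroup.subgroupOfEquivOfLe hle0).toEquiv]
    exact hcard0
  have hinj : Function.Injective (π.comp (L₀.subgroupOf (threeJ3 F ω)).subtype) := by
    rw [← MonoidHom.ker_eq_bot_iff, Subgroup.eq_bot_iff_forall]
    rintro ⟨v, hv⟩ hvk
    have hvc : v ∈ Subgroup.center (threeJ3 F ω) := (QuotientGroup.eq_one_iff v).1 hvk
    obtain ⟨k, hk⟩ := h.center_scalar hvc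
    have hb : h.emb v.1 = decF2 18 (scalars.getD k.val one) := by
      rw [show h.emb v.1 = h.big (v.1 : Matrix F9 F9 F) from rfl, hk, h.big_scalar, decScalar]
    obtain ⟨g, ⟨i, hi, hg⟩, b, hb', hgb⟩ := hfac (show v.1 ∈ L₀ from hv)
    rw [SetLike.mem_coe, Subgroup.mem_bot] at hb'
    subst hb'
    simp only [mul_one] at hgb
    subst hgb
    have hl : scalars.length = 3 := by decide +kernel
    have hcan := Model.scalars_canon
    simp only [Bool.and_eq_true, List.all_eq_true] at hcan
    have hki : scalars.getD k.val one ∈ scalars := by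
      rw [List.getD_eq_getElem _ _ (by rw [hl]; exact k.val_lt)]; exact List.getElem_mem _
    have hd := of_allFrom_zero Model.five_dist hi
    simp only [distinctOK, Bool.and_eq_true] at hd
    have e := dec_inj _ _ hd.1.1.1.1 (hcan.1 _ hki) (hg.symm.trans hb)
    have hsc := of_allFrom_zero Model.five_scalar hi
    simp only [Bool.or_eq_true, beq_iff_eq, Bool.not_eq_true', List.contains_eq_mem,
      decide_eq_false_iff_not] at hsc
    rcases hsc with rfl | hne
    · have h0 : Model.fiveT.get 0 = one := by decide +kernel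
      refine Subtype.ext (Subtype.ext (h.emb_injective ?_))
      show h.emb v.1 = h.emb _
      rw [hg, h0, dec_one]
      simp
    · exact absurd (e ▸ hki) hne
  have hsub : (π.comp (L₀.subgroupOf (threeJ3 F ω)).subtype).range ≤
      Subgroup.closure {x 0, x 1, x 2, x 3, x 4} := by
    rintro - ⟨⟨v, hv⟩, rfl⟩
    have hvL : v ∈ L := by
      obtain ⟨v', hv', e⟩ := genSet_closure_le h.emb_injective hfive (show v.1 ∈ L₀ from hv)
      rwa [← Subtype.ext e]
    have himg : L.map π ≤ Subgroup.closure {x 0, x 1, x 2, x 3, x 4} := by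
      rw [MonoidHom.map_closure, Subgroup.closure_le]
      rintro _ ⟨g, hg, rfl⟩
      rcases hg with rfl | rfl | rfl | rfl | rfl <;> exact Subgroup.subset_closure (by simp [x])
    exact himg ⟨v, hvL, rfl⟩
  calc 1920 = Nat.card (π.comp (L₀.subgroupOf (threeJ3 F ω)).subtype).range := by
        rw [← hL]; exact Nat.card_congr (MonoidHom.ofInjective hinj).toEquiv
    _ ≤ _ := Subgroup.card_le_of_le hsub

end CfsgLib.JThreeUnique
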