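import Cfsg.Agent.Lib.Sporadic.J3
import Cfsg.Agent.Lib.SLTwoPresent.Even
import Cfsg.Agent.Lib.MinimalNonCA.Main
import Mathlib.FieldTheory.Finite.GaloisField

/-!
The model `J3` has a subgroup `SL(2,16):2`: three elements of the subgroup of order 8160 satisfy
the relations of the standard generators of `SL(2,16)`.
-/

set_option autoImplicit false
set_option maxRecDepth 100000

namespace CfsgLib.JThreeUnique

open Polynomial Matrix CfsgLib.SLTwoPresent

local notation "K16" => GaloisField 2 4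
local notation "SL16" => Matrix.SpecialLinearGroup (Fin 2) (GaloisField 2 4)

theorem card_K16 : Nat.card K16 = 16 := by rw [GaloisField.card 2 4 (by norm_num)]; norm_num

/-- A primitive root of `X ^ 4 + X + 1`. -/
theorem exists_root : ∃ x : K16, x ^ 4 = x + 1 ∧ orderOf x = 15 := by
  have : Finite K16ˣ := inferInstance
  obtain ⟨g, hg⟩ := IsCyclic.exists_generator (α := K16ˣ)
  have hord : orderOf g = 15 := by
    rw [orderOf_eq_card_of_forall_mem_zpowers hg, Nat.card_units, card_K16]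
  have ho : orderOf (g : K16) = 15 := orderOf_units.trans hord
  set t : K16 := (g : K16) with ht
  have h15 : t ^ 15 = 1 := ho ▸ pow_orderOf_eq_one t
  have h5 : t ^ 5 - 1 ≠ 0 := fun h => by
    have := Nat.le_of_dvd (by norm_num) (ho ▸ orderOf_dvd_of_pow_eq_one (sub_eq_zero.1 h))
    omega
  have h3 : t ^ 3 - 1 ≠ 0 := fun h => by
    have := Nat.le_of_dvd (by norm_num) (ho ▸ orderOf_dvd_of_pow_eq_one (sub_eq_zero.1 h))
    omega
  have h10 : t ^ 10 + t ^ 5 + 1 = 0 := by
    refine (mul_eq_zero.1 (?_ : (t ^ 5 - 1) * (t ^ 10 + t ^ 5 + 1) = 0)).resolve_left h5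
    linear_combination h15
  have hprod : (t ^ 2 + t + 1) * (t ^ 4 + t + 1) * (t ^ 4 + t ^ 3 + 1) = 0 := by
    linear_combination h10 + (t + t ^ 2 + t ^ 3 + 2 * t ^ 4 + 2 * t ^ 5 + 2 * t ^ 6 + t ^ 7 +
      t ^ 8 + t ^ 9) * (CharTwo.two_eq_zero : (2 : K16) = 0)
  have h2 : t ^ 2 + t + 1 ≠ 0 := fun h => h3 (by linear_combination (t - 1) * h)
  rcases mul_eq_zero.1 hprod with h | h
  · refine ⟨t, ?_, ho⟩
    have := (mul_eq_zero.1 h).resolve_left h2
    linear_combination this + (-t - 1) * (CharTwo.two_eq_zero : (2 : K16) = 0)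
  · have e : t * (g⁻¹ : K16ˣ) = 1 := g.mul_inv
    refine ⟨(g⁻¹ : K16ˣ), ?_, by rw [orderOf_units, orderOf_inv, hord]⟩
    set s : K16 := ((g⁻¹ : K16ˣ) : K16)
    linear_combination s ^ 4 * h - ((t * s) ^ 3 + (t * s) ^ 2 + t * s + 1) * e -
      s * ((t * s) ^ 2 + t * s + 1) * e + (-s - 1) * (CharTwo.two_eq_zero : (2 : K16) = 0)

/-- Three elements satisfying the relations give a homomorphism of `SL(2,16)`. -/
theorem exists_hom {J : Type*} [Group J] {u h w : J} (hu : u * u = 1) (hw : w * w = 1)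
    (huw : (u * w) ^ 3 = 1) (hinv : w * h * w⁻¹ = h⁻¹) (hh : h ^ 15 = 1)
    (hb : h ^ 4 * u * (h ^ 4)⁻¹ = u * (h * u * h⁻¹)) :
    ∃ (φ : SL16 →* J) (a : K16ˣ), φ (uu 1) = u ∧ φ (dd a) = h ∧ φ ww = w ∧
      Subgroup.closure ({uu 1, dd a, ww} : Set SL16) = ⊤ := by
  classical
  have : Fact (Nat.Prime 2) := ⟨Nat.prime_two⟩
  letI := Fintype.ofFinite K16
  have hq : Fintype.card K16 = 16 := by rw [← Nat.card_eq_fintype_card, card_K16]
  obtain ⟨x, hx4, hxord⟩ := exists_root
  have hx15 : x ^ 15 = 1 := hxord ▸ pow_orderOf_eq_one x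
  have hx0 : x ≠ 0 := fun h0 => by simp [h0] at hx15
  let a : K16ˣ := Units.mk0 (x ^ 8) (pow_ne_zero _ hx0)
  have ha : (a : K16) ^ 2 = x := by
    show (x ^ 8) ^ 2 = x
    rw [← pow_mul, show 8 * 2 = 15 + 1 from rfl, pow_succ, hx15, one_mul]
  have hsurj : Function.Surjective (aeval x : (ZMod 2)[X] → K16) :=
    surjective_of_orderOf (p := 2) hxord (by norm_num) (by omega)
  have hint : IsIntegral (ZMod 2) x := IsIntegral.of_finite _ _
  have hdeg : (minpoly (ZMod 2) x).natDegree = 4 := by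
    have htop : IntermediateField.adjoin (ZMod 2) ({x} : Set K16) = ⊤ := eq_top_iff.2 fun z _ => by
      obtain ⟨P, rfl⟩ := hsurj z
      exact IntermediateField.algebra_adjoin_le_adjoin _ _
        (aeval_mem_adjoin_singleton (ZMod 2) x)
    rw [← IntermediateField.adjoin.finrank hint, htop, IntermediateField.finrank_top',
      GaloisField.finrank 2 (by norm_num)]
  have hm : minpoly (ZMod 2) x = X ^ 4 + X + 1 := by
    refine (eq_of_monic_of_dvd_of_natDegree_le (minpoly.monic hint) (by monicity!)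
      (minpoly.dvd _ _ ?_) ?_).symm
    · simp only [map_add, map_pow, aeval_X, map_one]
      rw [hx4]
      linear_combination (x + 1) * (CharTwo.two_eq_zero : (2 : K16) = 0)
    · rw [show (X ^ 4 + X + 1 : (ZMod 2)[X]).natDegree = 4 by compute_degree!, hdeg]
  have hgen : ∀ t : K16, t ≠ 0 → ∃ i : ℕ, t = x ^ i := by
    intro t ht
    have ho : orderOf (Units.mk0 x hx0) = Nat.card K16ˣ := by
      rw [← orderOf_units, Units.val_mk0, hxord, Nat.card_units, card_K16]
    obtain ⟨i, hi⟩ : Units.mk0 t ht ∈ Submonoid.powers (Units.mk0 x hx0) :=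
      mem_powers_iff_mem_zpowers.2 (by
        rw [Subgroup.eq_top_of_card_eq (Subgroup.zpowers (Units.mk0 x hx0))
          (by rw [Nat.card_zpowers, ho])]
        trivial)
    exact ⟨i, by simpa using (congrArg Units.val hi).symm⟩
  have hclSL : Subgroup.closure ({uu 1, dd a, ww} : Set SL16) = ⊤ :=
    closure_top_uu hgen a ha.symm
  have hW2 : (ww : SL16) * ww = 1 := by
    rw [ww_sq, show (-1 : K16ˣ) = 1 from Units.ext (by simp [CharTwo.neg_eq]), dd_one]
  have hH : dd a ^ 15 = (1 : SL16) := by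
    rw [← dd_pow, show a ^ 15 = 1 from Units.ext (by
      show (x ^ 8) ^ 15 = 1
      rw [← pow_mul, show 8 * 15 = 15 * 8 from rfl, pow_mul, hx15, one_pow]), dd_one]
  have hUW : (uu (1 : K16) * ww) ^ 3 = 1 := by
    have h1 := step (1 : K16) one_ne_zero
    rw [show Units.mk0 (-(1 : K16)⁻¹) (by simp) = 1 from Units.ext (by simp [CharTwo.neg_eq]),
      dd_one, mul_one, inv_one, CharTwo.neg_eq] at h1
    calc (uu (1 : K16) * ww) ^ 3 = uu 1 * (ww * uu 1 * ww) * uu 1 * ww := by
          simp only [pow_succ, pow_zero, one_mul, mul_assoc]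
      _ = (uu 1 * uu 1) * ww * (uu 1 * uu 1) * ww := by rw [h1]; group
      _ = 1 := by rw [← uu_add, CharTwo.add_self_eq_zero, uu_zero, one_mul, mul_one, hW2]
  let G' : Subgroup (SL16 × J) := Subgroup.closure {(uu 1, u), (dd a, h), (ww, w)}
  let U : G' := ⟨(uu 1, u), Subgroup.subset_closure (by simp)⟩
  let H : G' := ⟨(dd a, h), Subgroup.subset_closure (by simp)⟩
  let W : G' := ⟨(ww, w), Subgroup.subset_closure (by simp)⟩
  have eUU : U * U = 1 := Subtype.ext (Prod.ext
    (show uu (1 : K16) * uu 1 = 1 by rw [← uu_add, CharTwo.add_self_eq_zero, uu_zero]) hu)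
  have eWW : W * W = 1 := Subtype.ext (Prod.ext hW2 hw)
  have eUW : (U * W) ^ 3 = 1 := Subtype.ext (Prod.ext hUW huw)
  have eInv : W * H * W⁻¹ = H⁻¹ := Subtype.ext (Prod.ext (ww_conj a) hinv)
  have eH : H ^ 15 = 1 := Subtype.ext (Prod.ext hH hh)
  have eB : H ^ 4 * U * (H ^ 4)⁻¹ = U * (H * U * H⁻¹) := Subtype.ext (Prod.ext (by
    show dd a ^ 4 * uu 1 * (dd a ^ 4)⁻¹ = uu 1 * (dd a * uu 1 * (dd a)⁻¹)
    rw [dd_pow_conj, dd_conj, mul_one, mul_one, ← uu_add, ha, hx4, add_comm]) hb)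
  have hU2 : U ^ 2 = 1 := by rw [sq, eUU]
  have hV : (H * U * H⁻¹) * (H * U * H⁻¹) = 1 := by
    rw [← sq, pow_conj, hU2, mul_one, mul_inv_cancel]
  have hc1 : Commute U (H * U * H⁻¹) := by
    have h1 : (H ^ 4 * U * (H ^ 4)⁻¹) ^ 2 = 1 := by
      rw [pow_conj, hU2, mul_one, mul_inv_cancel]
    rw [eB, sq] at h1
    calc U * (H * U * H⁻¹) = (U * (H * U * H⁻¹))⁻¹ := eq_inv_of_mul_eq_one_left h1
      _ = H * U * H⁻¹ * U := by
        rw [_root_.mul_inv_rev, inv_eq_of_mul_eq_one_right eUU, inv_eq_of_mul_eq_one_right hV]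
  have hnd : ¬ 2 ∣ 1 := by norm_num
  have hcomm := commute_trinomial (p := 2) hU2 hc1 (Commute.pow_self H 4) hnd hnd
    (by rw [pow_one, pow_one]; exact eB)
  have hword : word U H (minpoly (ZMod 2) x) = 1 := by
    rw [hm, word, show (X ^ 4 + X + 1 : (ZMod 2)[X]).natDegree = 4 by compute_degree!]
    simp [List.range_succ, coeff_X, coeff_one, coeff_X_pow, ZMod.val_one]
    rw [eB, ← mul_assoc (H * U * H⁻¹) U, ← hc1.eq, mul_assoc U (H * U * H⁻¹), hV, mul_one, eUU]
  obtain ⟨ψ, h4, h5, h6, -, -⟩ := exists_param (p := 2) U H H x x hU2 hcomm (Commute.refl H)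
    hsurj X (aeval_X x) (by simp [word, natDegree_X, List.range_succ, coeff_X, ZMod.val_one])
    (Or.inl hword)
  have hcl : Subgroup.closure ({U, H, W} : Set G') = ⊤ := by
    refine Subgroup.map_injective G'.subtype_injective ?_
    rw [MonoidHom.map_closure, ← MonoidHom.range_eq_map, Subgroup.range_subtype]
    simp only [Set.image_insert_eq, Set.image_singleton]
    rfl
  obtain ⟨hfin, hle⟩ := even_finish (n := 15) (by norm_num) hx0 hgen hcl ψ h4 h5 h6 eInv eH eWW
    eUU eUW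
  let π₁ : G' →* SL16 := (MonoidHom.fst SL16 J).comp G'.subtype
  have hsur : Function.Surjective π₁ := by
    rw [← MonoidHom.range_eq_top, eq_top_iff, ← hclSL, Subgroup.closure_le]
    rintro g (rfl | rfl | rfl)
    exacts [⟨U, rfl⟩, ⟨H, rfl⟩, ⟨W, rfl⟩]
  have hcard : Nat.card SL16 = 4080 := by
    rw [CfsgLib.ClassicalGroups.slTwo_card, hq]
  have hbij : Function.Bijective π₁ := by
    refine (Nat.bijective_iff_surjective_and_card _).2 ⟨hsur, le_antisymm ?_ ?_⟩
    · rw [hq] at hle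
      rw [hcard]; exact hle
    · exact Nat.card_le_card_of_surjective _ hsur
  let e := MulEquiv.ofBijective π₁ hbij
  refine ⟨((MonoidHom.snd SL16 J).comp G'.subtype).comp e.symm.toMonoidHom, a, ?_, ?_, ?_, hclSL⟩
  · show ((e.symm (uu 1) : G') : SL16 × J).2 = u
    rw [show e.symm (uu 1) = U from e.symm_apply_eq.2 rfl]
  · show ((e.symm (dd a) : G') : SL16 × J).2 = h
    rw [show e.symm (dd a) = H from e.symm_apply_eq.2 rfl]
  · show ((e.symm ww : G') : SL16 × J).2 = w
    rw [show e.symm ww = W from e.symm_apply_eq.2 rfl]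

theorem isSimple_SL16 : IsSimpleGroup SL16 := by
  letI := Fintype.ofFinite K16
  have hq : Fintype.card K16 = 16 := by rw [← Nat.card_eq_fintype_card, card_K16]
  have he : ¬ Odd (Fintype.card K16) := by rw [hq]; decide
  obtain ⟨e⟩ := CfsgLib.MinimalNonCA.psl_equiv_sl_even he
  have : IsSimpleGroup (Matrix.ProjectiveSpecialLinearGroup (Fin 2) K16) :=
    Matrix.ProjectiveSpecialLinearGroup.rank_two_simple (by rw [card_K16]; norm_num)
  have : Nontrivial SL16 := e.symm.toEquiv.nontrivial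
  exact IsSimpleGroup.isSimpleGroup_of_surjective e.toMonoidHom e.surjective

open CfsgLib.Sporadic CfsgLib.Sporadic.J3

/-- The code of a word in the transversals of the subgroup of index 6156. -/
noncomputable def kWord (v : ℕ) : ℕ := wordCode (mulF2 18) J3.one [(17, kT), (1440, hT)] v

private noncomputable def uc : ℕ := kWord 12802
private noncomputable def hc : ℕ := kWord 442
private noncomputable def wc : ℕ := kWord 1807

theorem rel_codes :
    mulF2 18 uc uc = J3.one ∧ uc ≠ J3.one ∧ mulF2 18 wc wc = J3.one ∧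
    genWord (mulF2 18) J3.one [uc, wc] [0, 1, 0, 1, 0, 1] = J3.one ∧
    genWord (mulF2 18) J3.one [hc, wc] [1, 0, 1, 0] = J3.one ∧
    genWord (mulF2 18) J3.one [hc] (List.replicate 15 0) = J3.one ∧
    genWord (mulF2 18) J3.one [hc, uc] [0, 0, 0, 0, 1] =
      genWord (mulF2 18) J3.one [hc, uc] (1 :: 0 :: 1 :: (List.replicate 14 0 ++ [0, 0, 0, 0])) ∧
    canonF2 18 uc = true := by
  decide +kernel

theorem exists_sl2_sixteen {F : Type*} [Field F] {ω : F} (h : FieldFour F ω) :
    ∃ (H : Subgroup (Cfsg.Spor.J3 F ω)) (N : Subgroup H) (K : Type) (_ : Field K) (_ : Fintype K),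
      N.Normal ∧ N.index = 2 ∧ Fintype.card K = 16 ∧
        Nonempty (N ≃* Matrix.SpecialLinearGroup (Fin 2) K) := by
  have := h.finite_threeJ3
  have := h.finiteGL
  let π := QuotientGroup.mk' (Subgroup.center (Cfsg.Spor.threeJ3 F ω))
  let K₀ : Subgroup (Cfsg.Spor.threeJ3 F ω) := h.kGroup.subgroupOf (Cfsg.Spor.threeJ3 F ω)
  have hle : h.kGroup ≤ Cfsg.Spor.threeJ3 F ω := h.threeJ3_eq ▸ h.kGroup_le
  have hcard : Nat.card K₀ = 24480 := by
    rw [Nat.card_congr (Subgroup.subgroupOfEquivOfLe hle).toEquiv, h.card_kGroup]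
  have hker : π.ker ≤ K₀ := by
    rw [QuotientGroup.ker_mk']
    exact fun g hg => h.center_le_kGroup hg
  have hidx : (K₀.map π).index = 6156 := by
    rw [K₀.index_map_eq (QuotientGroup.mk'_surjective _) hker]
    have e := K₀.card_mul_index
    rw [hcard, h.card_threeJ3] at e
    omega
  have hcK : Nat.card (K₀.map π) = 8160 := by
    have e := (K₀.map π).card_mul_index
    rw [hidx, h.card_J3] at e
    exact Nat.eq_of_mul_eq_mul_right (by norm_num : 0 < 6156) (e.trans (by norm_num))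
  have hk : ∀ v, CodeMem h.emb (decF2 18) h.kGroup (kWord v) :=
    wordCode_mem (emb := h.emb) (dec := decF2 18) (mul := mulF2 18) (one := J3.one)
      mulF2_dec dec_one _ h.lower_mem
  obtain ⟨u, hu, eu⟩ := hk 12802
  obtain ⟨g, hg, eg⟩ := hk 442
  obtain ⟨w, hw, ew⟩ := hk 1807
  replace eu : h.emb u = decF2 18 uc := eu
  replace eg : h.emb g = decF2 18 hc := eg
  replace ew : h.emb w = decF2 18 wc := ew
  obtain ⟨r1, r1', r2, r3, r4, r5, r6, r7⟩ := rel_codes
  replace r1 := congrArg (decF2 18) r1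
  replace r2 := congrArg (decF2 18) r2
  replace r3 := congrArg (decF2 18) r3
  replace r4 := congrArg (decF2 18) r4
  replace r5 := congrArg (decF2 18) r5
  replace r6 := congrArg (decF2 18) r6
  simp only [List.replicate, List.cons_append, List.nil_append, genWord_cons, genWord_nil,
    mulF2_dec, dec_one, List.getD_cons_zero, List.getD_cons_succ, mul_one, ← eu, ← eg, ← ew,
    ← map_mul] at r1 r2 r3 r4 r5 r6
  rw [← map_one h.emb] at r1 r2 r3 r4 r5
  replace r1 : u * u = 1 := h.emb_injective r1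
  replace r2 : w * w = 1 := h.emb_injective r2
  replace r3 : (u * w) ^ 3 = 1 := by
    simpa only [pow_succ, pow_zero, one_mul, mul_assoc] using h.emb_injective r3
  replace r4 : w * g * w⁻¹ = g⁻¹ := by
    rw [inv_eq_of_mul_eq_one_right r2, eq_inv_iff_mul_eq_one]
    simpa only [mul_assoc] using h.emb_injective r4
  replace r5 : g ^ 15 = 1 := by
    simpa only [pow_succ, pow_zero, one_mul, mul_assoc] using h.emb_injective r5
  replace r6 : g ^ 4 * u * (g ^ 4)⁻¹ = u * (g * u * g⁻¹) := by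
    rw [mul_inv_eq_iff_eq_mul, inv_eq_of_mul_eq_one_right (show g * g ^ 14 = 1 by
      rw [← pow_succ', r5])]
    simpa only [pow_succ, pow_zero, one_mul, mul_assoc] using h.emb_injective r6
  let u' : Cfsg.Spor.J3 F ω := π ⟨u, hle hu⟩
  let g' : Cfsg.Spor.J3 F ω := π ⟨g, hle hg⟩
  let w' : Cfsg.Spor.J3 F ω := π ⟨w, hle hw⟩
  have lift : ∀ {a b : Cfsg.Spor.threeJ3 F ω}, a.1 = b.1 → π a = π b :=
    fun e => congrArg π (Subtype.ext e)
  have e1 : u' * u' = 1 := by rw [← map_mul, ← map_one π]; exact lift r1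
  have e2 : w' * w' = 1 := by rw [← map_mul, ← map_one π]; exact lift r2
  have e3 : (u' * w') ^ 3 = 1 := by rw [← map_mul, ← map_pow, ← map_one π]; exact lift r3
  have e4 : w' * g' * w'⁻¹ = g'⁻¹ := by
    rw [← map_inv, ← map_inv, ← map_mul, ← map_mul]; exact lift r4
  have e5 : g' ^ 15 = 1 := by rw [← map_pow, ← map_one π]; exact lift r5
  have e6 : g' ^ 4 * u' * (g' ^ 4)⁻¹ = u' * (g' * u' * g'⁻¹) := by
    simp only [u', g', ← map_pow, ← map_inv, ← map_mul]; exact lift r6
  obtain ⟨φ, a, pu, pg, pw, hclSL⟩ := exists_hom e1 e2 e3 e4 e5 e6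
  have hu1 : u' ≠ 1 := by
    intro hone
    have hz : (⟨u, hle hu⟩ : Cfsg.Spor.threeJ3 F ω) ∈ Subgroup.center (Cfsg.Spor.threeJ3 F ω) :=
      (QuotientGroup.eq_one_iff _).1 hone
    have h3 : u ^ 3 = 1 := by
      have := congrArg (fun z : Subgroup.center (Cfsg.Spor.threeJ3 F ω) => z.1.1)
        (pow_card_eq_one' (x := (⟨_, hz⟩ : Subgroup.center (Cfsg.Spor.threeJ3 F ω))))
      simpa [h.card_center] using this
    have hu' : u = 1 := by rwa [pow_succ, sq, r1, one_mul] at h3
    refine r1' (dec_inj _ _ r7 (by decide +kernel) ?_)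
    rw [← eu, hu', map_one, dec_one]
  have : IsSimpleGroup SL16 := isSimple_SL16
  have hinj : Function.Injective φ := by
    rw [← MonoidHom.ker_eq_bot_iff]
    refine (φ.normal_ker.eq_bot_or_eq_top).resolve_right fun htop => hu1 ?_
    rw [← pu]
    exact MonoidHom.mem_ker.1 (htop ▸ Subgroup.mem_top _)
  letI := Fintype.ofFinite K16
  have hq : Fintype.card K16 = 16 := by rw [← Nat.card_eq_fintype_card, card_K16]
  have hmem : φ.range ≤ K₀.map π := by
    have hgen : Subgroup.closure ({uu 1, dd a, ww} : Set SL16) ≤ (K₀.map π).comap φ := by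
      rw [Subgroup.closure_le]
      rintro z (rfl | rfl | rfl)
      exacts [⟨_, (show (⟨u, hle hu⟩ : Cfsg.Spor.threeJ3 F ω) ∈ K₀ from hu), pu.symm⟩,
        ⟨_, (show (⟨g, hle hg⟩ : Cfsg.Spor.threeJ3 F ω) ∈ K₀ from hg), pg.symm⟩,
        ⟨_, (show (⟨w, hle hw⟩ : Cfsg.Spor.threeJ3 F ω) ∈ K₀ from hw), pw.symm⟩]
    rintro _ ⟨z, rfl⟩
    exact hgen (hclSL ▸ Subgroup.mem_top z)
  refine ⟨K₀.map π, φ.range.subgroupOf (K₀.map π), K16, inferInstance, inferInstance, ?_, ?_, hq,
    ⟨(Subgroup.subgroupOfEquivOfLe hmem).trans (MonoidHom.ofInjective hinj).symm⟩⟩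
  all_goals
    have hN : (φ.range.subgroupOf (K₀.map π)).index = 2 := by
      have e := (φ.range.subgroupOf (K₀.map π)).card_mul_index
      rw [Nat.card_congr (Subgroup.subgroupOfEquivOfLe hmem).toEquiv,
        ← Nat.card_congr (MonoidHom.ofInjective hinj).toEquiv,
        CfsgLib.ClassicalGroups.slTwo_card, hq, hcK] at e
      omega
  · exact Subgroup.normal_of_index_eq_two hN
  · exact hN

end CfsgLib.JThreeUnique
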