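import Mathlib.Algebra.Group.Basic

/-!
Uniqueness of the group of `J₃` type: the relations on six generators derived from the local structure.

`z u t c n` generate the centraliser of the involution `z`; `a` rotates the four-group `{1, z, u, zu}` and
commutes with `t` and `n`. With `v = c u c` and `d = c a c` the last relations come from the centraliser
of `n`, which is `⟨n⟩ × A₆`.
-/

set_option autoImplicit false

namespace CfsgLib.JThreeUnique

variable {G : Type*} [Group G]

/-- The relations of the amalgam of the centraliser of `z` and the normaliser of the four-group. -/
structure Base (z u t c n a : G) : Prop where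
  z2 : z * z = 1
  u2 : u * u = 1
  t2 : t * t = 1
  c2 : c * c = 1
  n3 : n * n * n = 1
  a3 : a * a * a = 1
  zu : z * u = u * z
  zt : z * t = t * z
  zn : z * n = n * z
  zc : z * c = c * z
  ut : u * t = t * u
  un : u * n = n * u
  nt : n * t * (n * t) * (n * t) = 1
  tta : a * t = t * a
  an : a * n = n * a
  az : a * z * a⁻¹ = u
  au : a * u * a⁻¹ = z * u
  cn : c * n * c * n = 1
  ct : c * t * (c * t) * (c * t) = 1

/-- An element whose image in `A₆` centralises the image of `a`. -/
def fixWord (z c a : G) : G := c * a * c * a⁻¹ * z * (c * a⁻¹ * c)

/-- The relations of the third Janko group. -/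
structure Rels (z u t c n a : G) : Prop extends Base z u t c n a where
  two : a * z * n * (c * u * c) * (a * z * n * (c * u * c)) = 1
  fix : fixWord z c a * a = a * fixWord z c a

end CfsgLib.JThreeUnique
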