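import Cfsg.Agent.Lib.JThreeUnique.Rels
import Cfsg.Agent.Lib.HJType.UniqueLocal

/-!
Uniqueness of the group of `J₃` type: the hypothesis and the normalised generators.
-/

set_option autoImplicit false

namespace CfsgLib.JThreeUnique

open Subgroup CfsgLib.HJType

variable {G : Type*} [Group G]

/-- One class of involutions, with centraliser extraspecial of order 32 extended by `A₅`. -/
structure One (z : G) (Q : Subgroup G) extends Hyp z Q where
  one : ∀ x y : G, orderOf x = 2 → orderOf y = 2 → IsConj x y

/-- Generators of the centraliser of `z` with a rotation `a` of the four-group `{1, z, u, zu}`. -/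
structure Gens (z : G) (Q : Subgroup G) (u t c n a : G) : Prop where
  base : Base z u t c n a
  us : Sing z Q u
  tO : Outer z Q t
  cO : Outer z Q c
  nord : orderOf n = 3
  moves : ¬ Eqv z (c * u * c) u
  gen : Subgroup.closure {z, u, t, c, n} = centralizer ({z} : Set G)

end CfsgLib.JThreeUnique
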