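import Cfsg.Agent.Lib.JThreeUnique.HCheck
import Cfsg.Agent.Lib.InvChar.DihedralEight
import Cfsg.Agent.Lib.Small.OrderEight
import Cfsg.Agent.Lib.OrderElim.A6Line

/-!
A group of order 168 or 360 generated around an involution with dihedral centraliser by two rotations of
four-groups: the orientation and the facts used for the relations.
-/

set_option autoImplicit false
set_option maxRecDepth 20000

namespace CfsgLib.JThreeUnique

open Subgroup

theorem a6_invert : ∀ x : alternatingGroup (Fin 6), x * x * x = 1 →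
    ∃ w : alternatingGroup (Fin 6), w * w = 1 ∧ w ≠ 1 ∧ w * x = x * x * w := by
  decide +kernel

/-- Two rotations of four-groups through an involution with centraliser of order eight. -/
structure QuoData {H : Type*} [Group H] (Z U V A D : H) : Prop where
  z1 : Z ≠ 1
  zz : Z * Z = 1
  card : Nat.card ↥(centralizer ({Z} : Set H)) = 8
  uu : U * U = 1
  vv : V * V = 1
  uz : U * Z = Z * U
  vz : V * Z = Z * V
  uv : U * V ≠ V * U
  uv2 : U * V * (U * V) = Z
  a3 : A ^ 3 = 1
  a1 : A ≠ 1
  az : A * Z * A⁻¹ = U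
  au : A * U * A⁻¹ = Z * U
  d3 : D ^ 3 = 1
  d1 : D ≠ 1
  dz : D * Z * D⁻¹ = V
  dv : D * V * D⁻¹ = Z * V
  sym : A * (Z * V) * (A * (Z * V)) = 1 ↔ D * (Z * U) * (D * (Z * U)) = 1

/-- The facts used in the case of order 360. -/
structure SixFacts {H : Type*} [Group H] (Z A D : H) : Prop where
  nine : ∀ x : H, x ^ 3 = 1 → x ≠ 1 → 9 ∣ Nat.card ↥(centralizer ({x} : Set H))
  no27 : ¬ 27 ∣ Nat.card H
  invert : ∀ x : H, x ^ 3 = 1 → ∃ w : H, w * w = 1 ∧ w ≠ 1 ∧ w * x * w⁻¹ = x⁻¹
  word : D * A⁻¹ * Z * D⁻¹ * A = A * (D * A⁻¹ * Z * D⁻¹)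
  apart : ∀ g : H, g * A * g⁻¹ ≠ D ∧ g * A * g⁻¹ ≠ D⁻¹

namespace QuoData

variable {H : Type*} [Group H] [Finite H] {Z U V A D : H} (C : QuoData Z U V A D)
include C

theorem mem_cent {x : H} (h : x * Z = Z * x) : x ∈ centralizer ({Z} : Set H) :=
  mem_centralizer_singleton_iff.2 h

theorem u1 : U ≠ 1 := fun e => C.uv (by rw [e, one_mul, mul_one])
theorem v1 : V ≠ 1 := fun e => C.uv (by rw [e, one_mul, mul_one])
theorem uZ : U ≠ Z := fun e => C.uv (by rw [e, C.vz])
theorem vZ : V ≠ Z := fun e => C.uv (by rw [e, C.uz])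
theorem vU : V ≠ U := fun e => C.uv (by rw [e])
theorem vZU : V ≠ Z * U := fun e => C.uv (by rw [e, ← mul_assoc, C.uz])

theorem orderZ : orderOf Z = 2 := orderOf_eq_prime (by rw [pow_two, C.zz]) C.z1

theorem dihedral : Nonempty (↥(centralizer ({Z} : Set H)) ≃* DihedralGroup 4) := by
  classical
  have := Fintype.ofFinite H
  set S := centralizer ({Z} : Set H) with hS
  set uS : ↥S := ⟨U, C.mem_cent C.uz⟩
  set vS : ↥S := ⟨V, C.mem_cent C.vz⟩
  set zS : ↥S := ⟨Z, C.mem_cent rfl⟩
  refine (CfsgLib.Small.order_eight_dihedral_or_many_four C.card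
    (fun h => C.uv (congrArg Subtype.val (h uS vS)))).resolve_right fun h4 => ?_
  rw [Nat.card_eq_fintype_card, Fintype.card_subtype] at h4
  set five : Finset ↥S := {1, zS, uS, vS, zS * uS} with hfive
  have h5 : five.card = 5 := by
    have ne : ∀ {x y : ↥S}, (x : H) ≠ (y : H) → x ≠ y := fun h e => h (congrArg Subtype.val e)
    have n1 : (Z : H) * U ≠ 1 := fun e => C.uZ (by
      rw [← mul_one Z, ← e, ← mul_assoc, C.zz, one_mul])
    have n2 : (Z : H) * U ≠ Z := fun e => C.u1 (mul_eq_left.1 e)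
    have n3 : (Z : H) * U ≠ U := fun e => C.z1 (mul_eq_right.1 e)
    rw [hfive, Finset.card_insert_of_notMem, Finset.card_insert_of_notMem, Finset.card_insert_of_notMem,
      Finset.card_insert_of_notMem, Finset.card_singleton]
    · simp only [Finset.mem_singleton]; exact ne C.vZU
    · simp only [Finset.mem_insert, Finset.mem_singleton, not_or]; exact ⟨ne C.vU.symm, ne n3.symm⟩
    · simp only [Finset.mem_insert, Finset.mem_singleton, not_or]
      exact ⟨ne C.uZ.symm, ne C.vZ.symm, ne n2.symm⟩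
    · simp only [Finset.mem_insert, Finset.mem_singleton, not_or]
      exact ⟨ne C.z1.symm, ne C.u1.symm, ne C.v1.symm, ne n1.symm⟩
  have hdisj : Disjoint five (Finset.univ.filter fun x : ↥S => orderOf x = 4) := by
    rw [Finset.disjoint_left]
    intro x hx hx'
    have h2 : x * x = 1 := by
      simp only [hfive, Finset.mem_insert, Finset.mem_singleton] at hx
      rcases hx with rfl | rfl | rfl | rfl | rfl
      · exact one_mul _
      · exact Subtype.ext C.zz
      · exact Subtype.ext C.uu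
      · exact Subtype.ext C.vv
      · refine Subtype.ext (show Z * U * (Z * U) = 1 from ?_)
        rw [mul_assoc, ← mul_assoc U, C.uz, mul_assoc, C.uu, mul_one, C.zz]
    have ho : orderOf x = 4 := (Finset.mem_filter.1 hx').2
    have := orderOf_dvd_of_pow_eq_one (show x ^ 2 = 1 by rw [pow_two, h2])
    rw [ho] at this
    norm_num at this
  have := Finset.card_le_univ (five ∪ Finset.univ.filter fun x : ↥S => orderOf x = 4)
  rw [Finset.card_union_of_disjoint hdisj, h5, ← Nat.card_eq_fintype_card, C.card] at this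
  have h4' : 4 ≤ (Finset.univ.filter fun x : ↥S => orderOf x = 4).card := by convert h4 using 2
  omega

/-- The centraliser is generated by `U` and `V`. -/
theorem cent_le : centralizer ({Z} : Set H) ≤ closure ({U, V} : Set H) := by
  set K := closure ({U, V} : Set H) with hK
  have hKle : K ≤ centralizer ({Z} : Set H) := (closure_le _).2 fun x hx => by
    rcases hx with rfl | rfl
    exacts [C.mem_cent C.uz, C.mem_cent C.vz]
  have hd := Subgroup.card_dvd_of_le hKle
  rw [C.card] at hd
  have hu : U ∈ K := subset_closure (by simp)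
  have hv : V ∈ K := subset_closure (by simp)
  by_contra hcon
  have hlt : Nat.card K ≠ 8 := fun e => hcon (le_of_eq
    (Subgroup.eq_of_le_of_card_ge hKle (by rw [C.card, e])).symm)
  have hnc : ¬ IsMulCommutative K := fun hc => C.uv (congrArg Subtype.val
    (hc.is_comm.comm (⟨U, hu⟩ : K) ⟨V, hv⟩))
  have h4 : Nat.card K = 1 ∨ Nat.card K = 2 ∨ Nat.card K = 4 := by
    have := Nat.le_of_dvd (by norm_num) hd
    interval_cases Nat.card K <;> norm_num at hd <;> omega
  have : Fact (Nat.Prime 2) := ⟨Nat.prime_two⟩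
  refine hnc ⟨⟨fun p q => ?_⟩⟩
  rcases h4 with e | e | e
  · have : Subsingleton K := Finite.card_le_one_iff_subsingleton.1 e.le
    exact Subsingleton.elim _ _
  · have : IsCyclic K := isCyclic_of_prime_card (p := 2) e
    exact IsCyclic.commutative.is_comm.comm p q
  · exact (IsPGroup.commGroupOfCardEqPrimeSq (p := 2) (G := K) (by rw [e]; norm_num)).mul_comm p q

/-- There is no subgroup of index two. -/
theorem idx (K : Subgroup H) : K.index ≠ 2 := by
  intro hK
  have hn : K.Normal := Subgroup.normal_of_index_eq_two hK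
  have hsq : ∀ x : H, x * x ∈ K := fun x => Subgroup.mul_self_mem_of_index_two hK x
  have h3 : ∀ {x : H}, x ^ 3 = 1 → x ∈ K := fun {x} hx => by
    have e : x = (x * x) * (x * x) := by
      calc x = x ^ 3 * x := by rw [hx, one_mul]
        _ = _ := by rw [pow_succ, pow_two]; group
    rw [e]; exact mul_mem (hsq x) (hsq x)
  have hA := h3 C.a3
  have hZ : Z ∈ K := by
    have e : Z = A * (U * A⁻¹ * U⁻¹) := by
      rw [← mul_assoc, ← mul_assoc, C.au, mul_inv_cancel_right]
    rw [e]; exact mul_mem hA (hn.conj_mem _ (inv_mem hA) U)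
  have hU : U ∈ K := C.az ▸ hn.conj_mem _ hZ A
  have hV : V ∈ K := C.dz ▸ hn.conj_mem _ hZ D
  obtain ⟨e⟩ := C.dihedral
  obtain ⟨P, hP⟩ := CfsgLib.InvChar.DihedralEight.exists_sylow_eq
    (CfsgLib.InvChar.DihedralEight.isD8Centralizer_of_equiv C.orderZ e)
  have hle : (P : Subgroup H) ≤ K := hP ▸ C.cent_le.trans ((closure_le _).2 fun x hx => by
    rcases hx with rfl | rfl <;> assumption)
  have : Fact (Nat.Prime 2) := ⟨Nat.prime_two⟩
  have h2 := Subgroup.index_dvd_of_le hle
  rw [hK] at h2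
  exact P.not_dvd_index h2

theorem simple : IsSimpleGroup H := by
  obtain ⟨e⟩ := C.dihedral
  exact CfsgLib.InvChar.DihedralEight.isSimpleGroup C.orderZ e C.idx

theorem order : Nat.card H = 168 ∨ Nat.card H = 360 := by
  obtain ⟨e⟩ := C.dihedral
  exact CfsgLib.InvChar.DihedralEight.card_168_or_360 C.orderZ e C.idx

theorem sign_one {m : ℕ} (f : H →* Equiv.Perm (Fin m)) (x : H) : Equiv.Perm.sign (f x) = 1 := by
  have := C.simple
  set g : H →* ℤˣ := Equiv.Perm.sign.comp f
  rcases (inferInstance : g.ker.Normal).eq_bot_or_eq_top with hk | hk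
  · exfalso
    have h := Nat.card_le_card_of_injective g ((MonoidHom.ker_eq_bot_iff g).1 hk)
    have h2 : Nat.card ℤˣ = 2 := by rw [Nat.card_eq_fintype_card, Fintype.card_units_int]
    rcases C.order with e | e <;> omega
  · exact MonoidHom.mem_ker.1 (show x ∈ g.ker from hk.symm ▸ Subgroup.mem_top x)

theorem cfg {m : ℕ} (f : H →* Equiv.Perm (Fin m)) (hf : Function.Injective f) :
    HCheck.Cfg (f Z) (f A) (f D) where
  x3 := by rw [← map_pow, C.a3, map_one]
  x1 := fun e => C.a1 ((map_eq_one_iff f hf).1 e)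
  y3 := by rw [← map_pow, C.d3, map_one]
  y1 := fun e => C.d1 ((map_eq_one_iff f hf).1 e)
  xc := by simp only [← map_inv, ← map_mul, C.az, C.uz]
  xr := by simp only [← map_inv, ← map_mul, C.az, C.au]
  yc := by simp only [← map_inv, ← map_mul, C.dz, C.vz]
  yr := by simp only [← map_inv, ← map_mul, C.dz, C.dv]
  ncomm := by simp only [← map_inv, ← map_mul, C.az, C.dz, ne_eq, hf.eq_iff]; exact C.uv
  uv := by simp only [← map_inv, ← map_mul, C.az, C.dz, C.uv2]
  sym := by simp only [← map_inv, ← map_mul, C.az, C.dz, map_eq_one_iff f hf]; exact C.sym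

theorem exists_seven (h : Nat.card H = 168) :
    ∃ f : H →* Equiv.Perm (Fin 7), Function.Injective f ∧ f Z 0 = 0 ∧ f A 0 = 0 ∧ f D 0 ≠ 0 ∧
      f V 0 = 0 := by
  classical
  have := C.simple
  have : Fact (Nat.Prime 3) := ⟨Nat.prime_three⟩
  -- the stabiliser of the four-group of `U`
  let F : Subgroup H :=
    { carrier := {1, Z, U, Z * U}
      one_mem' := Or.inl rfl
      mul_mem' := by
        have e1 : U * (Z * U) = Z := by rw [← mul_assoc, C.uz, mul_assoc, C.uu, mul_one]
        have e2 : Z * (Z * U) = U := by rw [← mul_assoc, C.zz, one_mul]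
        have e3 : Z * U * Z = U := by rw [mul_assoc, C.uz, e2]
        have e4 : Z * U * U = Z := by rw [mul_assoc, C.uu, mul_one]
        have e5 : Z * U * (Z * U) = 1 := by rw [mul_assoc, e1, C.zz]
        intro p q hp hq
        simp only [Set.mem_insert_iff, Set.mem_singleton_iff] at hp hq ⊢
        rcases hp with rfl | rfl | rfl | rfl <;> rcases hq with rfl | rfl | rfl | rfl <;>
          simp only [one_mul, mul_one, C.zz, C.uu, C.uz, e1, e2, e3, e4, e5, true_or, or_true]
      inv_mem' := by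
        intro p hp
        simp only [Set.mem_insert_iff, Set.mem_singleton_iff] at hp ⊢
        rcases hp with rfl | rfl | rfl | rfl
        · simp
        · rw [inv_eq_of_mul_eq_one_right C.zz]; simp
        · rw [inv_eq_of_mul_eq_one_right C.uu]; simp
        · rw [mul_inv_rev, inv_eq_of_mul_eq_one_right C.zz, inv_eq_of_mul_eq_one_right C.uu, C.uz]; simp }
  have hmemF : ∀ {w : H}, w ∈ F ↔ w = 1 ∨ w = Z ∨ w = U ∨ w = Z * U := Iff.rfl
  set M : Subgroup H := normalizer (F : Set H) with hM
  have mem_of : ∀ g : H, g * Z * g⁻¹ ∈ F → g * U * g⁻¹ ∈ F → g ∈ M := by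
    intro g h1 h2
    refine Subgroup.mem_normalizer_fintype fun w hw => ?_
    rcases hmemF.1 hw with rfl | rfl | rfl | rfl
    · simp
    · exact h1
    · exact h2
    · rw [show g * (Z * U) * g⁻¹ = g * Z * g⁻¹ * (g * U * g⁻¹) by group]; exact mul_mem h1 h2
  have hV : V ∈ M := mem_of V
    (hmemF.2 (Or.inr (Or.inl (by rw [C.vz, mul_inv_cancel_right]))))
    (hmemF.2 (Or.inr (Or.inr (Or.inr (by
      rw [inv_eq_of_mul_eq_one_right C.vv]
      calc V * U * V = U * (U * V * (U * V)) := by
            rw [show U * (U * V * (U * V)) = U * U * (V * U * V) by group, C.uu, one_mul]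
        _ = Z * U := by rw [C.uv2, C.uz])))))
  have hA : A ∈ M := mem_of A (hmemF.2 (by rw [C.az]; simp)) (hmemF.2 (by rw [C.au]; simp))
  have hZ : Z ∈ M := le_normalizer (hmemF.2 (by simp))
  have hU : U ∈ M := le_normalizer (hmemF.2 (by simp))
  have hD : D ∉ M := fun hD => by
    have h1 := (Subgroup.mem_normalizer_iff.1 hD Z).1 (hmemF.2 (by simp))
    rw [C.dz] at h1
    rcases hmemF.1 h1 with e | e | e | e
    exacts [C.v1 e, C.vZ e, C.vU e, C.vZU e]
  have hle : centralizer ({Z} : Set H) ≤ M := C.cent_le.trans ((closure_le _).2 fun x hx => by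
    rcases hx with rfl | rfl <;> assumption)
  have h24 : Nat.card M = 24 := by
    have h8 := Subgroup.card_dvd_of_le hle
    rw [C.card] at h8
    have h3 : 3 ∣ Nat.card M := by
      have := orderOf_dvd_natCard (⟨A, hA⟩ : M)
      rwa [Subgroup.orderOf_mk, orderOf_eq_prime C.a3 C.a1] at this
    have hdiv := M.card_subgroup_dvd_card
    rw [h] at hdiv
    have hlt : Nat.card M ≠ 168 := fun e => hD (by
      rw [Subgroup.eq_top_of_card_eq M (by rw [e, h])]; exact Subgroup.mem_top D)
    have h24 : 24 ∣ Nat.card M := Nat.Coprime.mul_dvd_of_dvd_of_dvd (by norm_num) h8 h3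
    obtain ⟨k, hk⟩ := h24
    rw [hk] at hdiv hlt ⊢
    have hk7 : k ∣ 7 := (Nat.mul_dvd_mul_iff_left (show 0 < 24 by norm_num)).1 hdiv
    rcases (Nat.dvd_prime (by norm_num)).1 hk7 with rfl | rfl <;> omega
  have := Fintype.ofFinite (H ⧸ M)
  have h7 : Fintype.card (H ⧸ M) = 7 := by
    have h1 := Subgroup.card_eq_card_quotient_mul_card_subgroup M
    rw [h, h24, Nat.card_eq_fintype_card] at h1
    omega
  let eq0 : H ⧸ M ≃ Fin 7 := Fintype.equivFinOfCardEq h7
  let e0 : H ⧸ M ≃ Fin 7 := eq0.trans (Equiv.swap (eq0 ((1 : H) : H ⧸ M)) 0)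
  have he0 : e0 ((1 : H) : H ⧸ M) = 0 := by simp [e0]
  let f : H →* Equiv.Perm (Fin 7) := e0.permCongrHom.toMonoidHom.comp (MulAction.toPermHom H (H ⧸ M))
  have hpt : ∀ x, f x 0 = 0 ↔ x ∈ M := by
    intro x
    have hfx : f x 0 = e0 (x • ((1 : H) : H ⧸ M)) := by
      rw [← he0]
      show e0 (x • e0.symm (e0 _)) = _
      rw [Equiv.symm_apply_apply]
    rw [hfx]
    conv_lhs => rhs; rw [← he0]
    rw [e0.injective.eq_iff, MulAction.Quotient.smul_coe, smul_eq_mul, mul_one, QuotientGroup.eq, mul_one,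
      inv_mem_iff]
  refine ⟨f, ?_, (hpt Z).2 hZ, (hpt A).2 hA, fun e => hD ((hpt D).1 e), (hpt V).2 hV⟩
  rcases (inferInstance : f.ker.Normal).eq_bot_or_eq_top with hk | hk
  · exact (MonoidHom.ker_eq_bot_iff f).1 hk
  · exfalso
    exact hD ((hpt D).1 (by
      rw [show f D = 1 from MonoidHom.mem_ker.1 (hk ▸ Subgroup.mem_top D)]; rfl))

/-- Orientation, and the consequences in the oriented case. -/
theorem main :
    (A * (Z * V) * (A * (Z * V)) = 1 ∨ A⁻¹ * V * (A⁻¹ * V) = 1) ∧
    (A * (Z * V) * (A * (Z * V)) = 1 →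
      ((A * D) ^ 3 = 1 ∨ (A * D) ^ 4 = 1) ∨ SixFacts Z A D) := by
  have := C.simple
  rcases C.order with h | h
  · obtain ⟨f, hf, hZ, hA, hD, hV⟩ := C.exists_seven h
    have h2 : f Z * f Z = 1 := by rw [← map_mul, C.zz, map_one]
    obtain ⟨p, q⟩ := HCheck.seven h2 (fun e => C.z1 ((map_eq_one_iff f hf).1 e)) (C.sign_one f Z) hZ
      (C.cfg f hf) hA hD (by rw [← map_inv, ← map_mul, ← map_mul, C.dz]; exact hV)
    simp only [← map_inv, ← map_mul, ← map_pow, map_eq_one_iff f hf, C.dz] at p q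
    exact ⟨p, fun e => Or.inl (q e)⟩
  · obtain ⟨e6⟩ := CfsgLib.OrderElim.A6.nonempty_mulEquiv_alternating_six h
    set f : H →* Equiv.Perm (Fin 6) := (alternatingGroup (Fin 6)).subtype.comp e6.toMonoidHom
    have hf : Function.Injective f := Subtype.val_injective.comp e6.injective
    have h2 : f Z * f Z = 1 := by rw [← map_mul, C.zz, map_one]
    obtain ⟨p, q⟩ := HCheck.six h2 (fun e => C.z1 ((map_eq_one_iff f hf).1 e)) (C.sign_one f Z) (C.cfg f hf)
    simp only [← map_inv, ← map_mul, map_eq_one_iff f hf, hf.eq_iff, C.dz] at p q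
    refine ⟨p, fun hw => Or.inr ⟨fun x hx hx1 => ?_, ?_, fun x hx => ?_, (q hw).1, fun g => ?_⟩⟩
    · have : Fact (Nat.Prime 3) := ⟨Nat.prime_three⟩
      have hox : orderOf x = 3 := orderOf_eq_prime hx hx1
      obtain ⟨P, hP⟩ := (IsPGroup.of_card (p := 3) (n := 1)
        (show Nat.card (zpowers x) = 3 ^ 1 by rw [pow_one, Nat.card_zpowers, hox])).exists_le_sylow
      have hcard : Nat.card (P : Subgroup H) = 3 ^ 2 :=
        CfsgLib.Small.card_sylow_of_card_eq (k := 2) (m := 40) (by rw [h]; norm_num) (by norm_num) P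
      have hPC : (P : Subgroup H) ≤ centralizer ({x} : Set H) := fun y hy =>
        mem_centralizer_singleton_iff.2 (congrArg Subtype.val
          ((IsPGroup.commGroupOfCardEqPrimeSq (G := (P : Subgroup H)) hcard).mul_comm ⟨y, hy⟩
            ⟨x, hP (mem_zpowers x)⟩))
      have := Subgroup.card_dvd_of_le hPC
      rw [hcard] at this
      simpa using this
    · rw [h]; norm_num
    · obtain ⟨w, hw2, hw1, hwx⟩ := a6_invert (e6 x) (by
        rw [← map_mul, ← map_mul, ← pow_two, ← pow_succ, hx, map_one])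
      refine ⟨e6.symm w, by rw [← map_mul, hw2, map_one], fun e => hw1 (e6.symm.injective (by rw [e, map_one])),
        ?_⟩
      rw [mul_inv_eq_iff_eq_mul, HCheck.inv_three hx]
      exact e6.injective (by
        rw [map_mul, map_mul, map_mul, MulEquiv.apply_symm_apply, hwx])
    · have := (q hw).2 (f g)
      simpa only [← map_inv, ← map_mul, ne_eq, hf.eq_iff] using this

end QuoData

end CfsgLib.JThreeUnique
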