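import Cfsg.Agent.Lib.JThreeUnique.Global
import Cfsg.Agent.Lib.JThreeUnique.CentThree
import Cfsg.Agent.Lib.JThreeUnique.Local
import Cfsg.Agent.Lib.JThree.Order
import Cfsg.Agent.Lib.JThreeUnique.CertMain
import Cfsg.Agent.Lib.JThreeUnique.Model
import Cfsg.Agent.Lib.Sporadic.J3
import Mathlib.FieldTheory.Finite.GaloisField

/-!
Uniqueness of the third Janko group from the centraliser of an involution.
-/

set_option autoImplicit false

namespace CfsgLib.JThreeUnique

open Subgroup CfsgLib.HJType

universe u

variable {G : Type u} [Group G] [Finite G] [IsSimpleGroup G]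

/-- A field with four elements and a primitive cube root of unity. -/
theorem exists_field_four :
    ∃ ω : GaloisField 2 2, CfsgLib.Sporadic.J3.FieldFour (GaloisField 2 2) ω := by
  classical
  have := Fintype.ofFinite (GaloisField 2 2)
  have hc : Fintype.card (GaloisField 2 2) = 4 := by
    rw [Fintype.card_eq_nat_card, GaloisField.card 2 2 two_ne_zero]; norm_num
  obtain ⟨a, -, ha⟩ := Finset.exists_mem_notMem_of_card_lt_card
    (s := ({0, 1} : Finset (GaloisField 2 2))) (t := Finset.univ)
    (by rw [Finset.card_univ, hc]; exact lt_of_le_of_lt (Finset.card_insert_le _ _) (by simp))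
  simp only [Finset.mem_insert, Finset.mem_singleton, not_or] at ha
  have h3 : a ^ 3 = 1 := by
    have := FiniteField.pow_card_sub_one_eq_one a ha.1
    rwa [hc] at this
  exact ⟨a, by rw [Nat.card_eq_fintype_card, hc], (mul_eq_zero.1 (show (a - 1) * (a ^ 2 + a + 1) = 0 by
    linear_combination h3)).resolve_left (sub_ne_zero.2 ha.2)⟩

/-- A simple group with one class of involutions and centraliser `2^(1+4).A₅` is `J₃`. -/
theorem iso_of_shape (hone : ∀ x y : G, orderOf x = 2 → orderOf y = 2 → IsConj x y) (t : G)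
    (ht : orderOf t = 2) (E : Subgroup (centralizer ({t} : Set G))) [E.Normal]
    (hX : Cfsg.IsExtraspecial 2 E) (hE : Nat.card E = 32)
    (hself : centralizer (E : Set (centralizer ({t} : Set G))) ≤ E)
    (e : (centralizer ({t} : Set G)) ⧸ E ≃* A5) : Cfsg.Spor.IsoJ3 G := by
  obtain ⟨H⟩ := exists_hyp t ht E hself hX (by rw [hE]; norm_num) e
  let S : One t _ := { H with one := hone }
  obtain ⟨u, t', c, n, a, g⟩ := S.exists_gens
  obtain ⟨u', n', a', g', R⟩ := exists_rels S g
  obtain ⟨ω, h⟩ := exists_field_four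
  obtain ⟨z₀, u₀, t₀, c₀, n₀, a₀, -, R₀, hgen₀, hC₀, htop₀⟩ := exists_model h
  have := h.finite_threeJ3
  have := h.isSimple_J3
  have := Fintype.ofFinite (GaloisField 2 2)
  exact ⟨GaloisField 2 2, inferInstance, inferInstance, ω,
    by rw [← Nat.card_eq_fintype_card]; exact h.1, h.2,
    nonempty_mulEquiv_of_rels (fun e => by rw [e, orderOf_one] at ht; omega) R g'.gen H.card_C
      (CfsgLib.JThree.order_of_shape hone t ht E hE hX e) R₀ hgen₀ hC₀ h.card_J3 htop₀
      fun R H hz hu ht hc hn => relIndex_le R H hz hu ht hc hn⟩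

end CfsgLib.JThreeUnique
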